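import Cfsg.Agent.Lib.HHSCons.Wrapper
import Cfsg.Agent.Lib.PerfectCentSylow.Main
import Cfsg.Agent.Lib.InvChar.Kazarin
import Cfsg.Agent.Lib.Frobenius.FPFThompson

/-!
A perfect group `A = [A, α]` acting on a group and centralising the fixed points of `α` acts trivially.
-/

set_option autoImplicit false

namespace CfsgLib.HHSCons

open Subgroup CfsgLib.CoprimeCentral CfsgLib.FlavellFpf CfsgLib.FlavellHHS
open scoped commutatorElement

universe u

/-- The statement, by the order of `K`. -/
def CentFixedBound (n : ℕ) : Prop :=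
  ∀ {G : Type u} [Group G] [Finite G] (α : MulAut G) (r : ℕ) (K A : Subgroup G),
    Nat.card K < n → r.Prime → α ^ r = 1 → ¬ r ∣ Nat.card G → Inv α K → Inv α A →
    A ≤ normalizer (K : Set G) → ⁅A, A⁆ = A → moved α A = A →
    (∀ c ∈ K, α c = c → ∀ a ∈ A, a * c = c * a) → A ≤ centralizer (K : Set G)

variable {G : Type u} [Group G] [Finite G] {α : MulAut G} {r : ℕ} {K A : Subgroup G}

/-- Reduction along an invariant normal subgroup. -/
theorem centFixed_of_step (ih : CentFixedBound.{u} (Nat.card K)) (hr : r.Prime) (hαr : α ^ r = 1)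
    (hrG : ¬ r ∣ Nat.card G) (hK : Inv α K) (hA : Inv α A) (hAK : A ≤ normalizer (K : Set G))
    (hperf : ⁅A, A⁆ = A) (hmov : moved α A = A)
    (hcent : ∀ c ∈ K, α c = c → ∀ a ∈ A, a * c = c * a)
    {N : Subgroup G} (hN : Inv α N) (hNK : N ≤ K) (hKN : K ≤ normalizer (N : Set G))
    (hAN : A ≤ normalizer (N : Set G)) (hne : N ≠ ⊥) (hlt : N ≠ K) :
    A ≤ centralizer (K : Set G) := by
  have hcardN : Nat.card N < Nat.card K :=
    lt_of_not_ge fun h => hlt (Subgroup.eq_of_le_of_card_ge hNK h)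
  have hcN : A ≤ centralizer (N : Set G) :=
    ih α r N A hcardN hr hαr hrG hN hA hAN hperf hmov fun c hc => hcent c (hNK hc)
  -- the quotient
  let L : Subgroup G := normalizer (N : Set G)
  have hL : Inv α L := hN.normalizer
  let N' : Subgroup ↥L := N.subgroupOf L
  haveI hn : N'.Normal := normal_subgroupOf_of_le_normalizer le_rfl
  have hN' : Inv (resAut hL) N' := inv_of_forall fun x hx =>
    Subgroup.mem_subgroupOf.2 (hN.apply_mem (Subgroup.mem_subgroupOf.1 hx))
  have hres : ∀ {X : Subgroup G}, Inv α X → Inv (resAut hL) (X.subgroupOf L) := fun hX =>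
    inv_of_forall fun x hx => Subgroup.mem_subgroupOf.2 (hX.apply_mem (Subgroup.mem_subgroupOf.1 hx))
  have hrL : ¬ r ∣ Nat.card ↥L := fun h => hrG (h.trans L.card_subgroup_dvd_card)
  let π := QuotientGroup.mk' N'
  have hA' : A.subgroupOf L ≤ normalizer ((K.subgroupOf L : Subgroup ↥L) : Set ↥L) := fun x hx =>
    mem_normalizer_of_conj_mem fun y hy => Subgroup.mem_subgroupOf.2
      ((mem_normalizer_iff.1 (hAK (Subgroup.mem_subgroupOf.1 hx)) y).1 (Subgroup.mem_subgroupOf.1 hy))
  have hsub : (A.subgroupOf L).map L.subtype = A := Subgroup.map_subgroupOf_eq_of_le hAN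
  have hperfL : ⁅A.subgroupOf L, A.subgroupOf L⁆ = A.subgroupOf L := by
    apply Subgroup.map_injective L.subtype_injective
    rw [Subgroup.map_commutator, hsub, hperf]
  have hmovL : moved (resAut hL) (A.subgroupOf L) = A.subgroupOf L := by
    apply Subgroup.map_injective L.subtype_injective
    rw [hsub, moved, MonoidHom.map_closure]
    conv_rhs => rw [← hmov, moved]
    congr 1
    ext y
    constructor
    · rintro ⟨_, ⟨z, hz, rfl⟩, rfl⟩
      exact ⟨z, Subgroup.mem_subgroupOf.1 hz, rfl⟩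
    · rintro ⟨z, hz, rfl⟩
      exact ⟨_, ⟨⟨z, hAN hz⟩, Subgroup.mem_subgroupOf.2 hz, rfl⟩, rfl⟩
  have hcard : Nat.card ((K.subgroupOf L).map π) < Nat.card K := by
    rw [← Nat.card_congr (Subgroup.subgroupOfEquivOfLe hKN).toEquiv]
    refine lt_of_le_of_ne (Nat.card_le_card_of_surjective _ (π.subgroupMap_surjective (K.subgroupOf L))) fun he => hne ?_
    rw [eq_bot_iff]
    intro x hx
    have hinj : Function.Injective (π.subgroupMap (K.subgroupOf L)) :=
      ((Nat.bijective_iff_surjective_and_card _).2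
        ⟨π.subgroupMap_surjective _, he.symm⟩).1
    have h1 : π.subgroupMap (K.subgroupOf L)
        ⟨⟨x, hKN (hNK hx)⟩, Subgroup.mem_subgroupOf.2 (hNK hx)⟩ = 1 :=
      Subtype.ext ((QuotientGroup.eq_one_iff _).2 (Subgroup.mem_subgroupOf.2 hx))
    have h2 := hinj (h1.trans (map_one _).symm)
    exact Subgroup.mem_bot.2 (congrArg (fun t : ↥(K.subgroupOf L) => ((t : ↥L) : G)) h2)
  have hperfQ : ⁅(A.subgroupOf L).map π, (A.subgroupOf L).map π⁆ = (A.subgroupOf L).map π := by
    rw [← Subgroup.map_commutator, hperfL]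
  have hmovQ : moved (quotAut hN') ((A.subgroupOf L).map π) = (A.subgroupOf L).map π := by
    rw [moved_map_mk, hmovL]
  have hAKQ : (A.subgroupOf L).map π ≤ normalizer (((K.subgroupOf L).map π : Subgroup _) : Set _) :=
    (Subgroup.map_mono hA').trans (Subgroup.le_normalizer_map π)
  have hcentQ : ∀ c ∈ (K.subgroupOf L).map π, quotAut hN' c = c →
      ∀ a ∈ (A.subgroupOf L).map π, a * c = c * a := by
    rintro _ ⟨x, hx, rfl⟩ hfix _ ⟨a, ha, rfl⟩
    have hfix' : x⁻¹ * resAut hL x ∈ N' := QuotientGroup.eq.1 hfix.symm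
    obtain ⟨k, hk, hxk⟩ := exists_fixed_in_coset hr (resAut_pow_eq_one hL hαr) hrL hN' hfix'
    have hxkK : ((x * k : ↥L) : G) ∈ K :=
      K.mul_mem (Subgroup.mem_subgroupOf.1 hx) (hNK (Subgroup.mem_subgroupOf.1 hk))
    have e : π x = π (x * k) := QuotientGroup.eq.2 (by simpa using hk)
    rw [e, ← map_mul, ← map_mul]
    exact congrArg π (Subtype.ext (hcent _ hxkK (congrArg Subtype.val hxk) _ (Subgroup.mem_subgroupOf.1 ha)))
  have hQ := ih (quotAut hN') r ((K.subgroupOf L).map π) ((A.subgroupOf L).map π) hcard hr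
    (quotAut_pow_eq_one hN' (resAut_pow_eq_one hL hαr))
    (fun h => hrL (h.trans N'.card_quotient_dvd_card)) (Inv.map_mk hN' (hres hK)) (Inv.map_mk hN' (hres hA))
    hAKQ hperfQ hmovQ hcentQ
  -- three subgroups
  have hAKN : ⁅A, K⁆ ≤ N := by
    rw [Subgroup.commutator_le]
    intro a ha k hk
    have h1 := mem_centralizer_iff.1 (hQ (Subgroup.mem_map_of_mem π
      (x := ⟨a, hAN ha⟩) (Subgroup.mem_subgroupOf.2 ha))) _
      (Subgroup.mem_map_of_mem π (x := ⟨k, hKN hk⟩) (Subgroup.mem_subgroupOf.2 hk))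
    have h2 : π ⁅(⟨a, hAN ha⟩ : ↥L), ⟨k, hKN hk⟩⁆ = 1 := by
      rw [map_commutatorElement, commutatorElement_eq_one_iff_mul_comm]; exact h1.symm
    exact Subgroup.mem_subgroupOf.1 ((QuotientGroup.eq_one_iff _).1 h2)
  have hNA : ⁅N, A⁆ = ⊥ := by
    rw [Subgroup.commutator_comm]; exact Subgroup.commutator_eq_bot_iff_le_centralizer.2 hcN
  have h1 : ⁅⁅A, K⁆, A⁆ = ⊥ := le_bot_iff.1 ((Subgroup.commutator_mono hAKN le_rfl).trans hNA.le)
  have h2 : ⁅⁅K, A⁆, A⁆ = ⊥ := by rw [Subgroup.commutator_comm K A]; exact h1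
  have h3 : ⁅⁅A, A⁆, K⁆ = ⊥ := Subgroup.commutator_commutator_eq_bot_of_rotate h1 h2
  rw [hperf] at h3
  exact Subgroup.commutator_eq_bot_iff_le_centralizer.1 h3

/-- The conjugation action of a subgroup on a normalised subgroup. -/
def conjOn (hAK : A ≤ normalizer (K : Set G)) : ↥A →* MulAut ↥K :=
  (Subgroup.normalizerMonoidHom K).comp (Subgroup.inclusion hAK)

theorem conjOn_apply (hAK : A ≤ normalizer (K : Set G)) (a : A) (x : K) :
    ((conjOn hAK a x : K) : G) = (a : G) * x * (a : G)⁻¹ := rfl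

/-- A perfect group normalising `K`, whose solvable normal subgroups are trivial, and centralising a
Sylow `2`-subgroup of `K` centralises `K`. -/
theorem le_centralizer_of_sylow {P : Subgroup G} (hPK : P ≤ normalizer (K : Set G))
    (hperf : ⁅P, P⁆ = P) {S : Sylow 2 ↥K}
    (hS : ∀ x ∈ (S : Subgroup ↥K), ∀ p ∈ P, p * (x : G) = x * p)
    (hO : ∀ N : Subgroup ↥K, N.Normal → Group.IsSolvable N → N = ⊥) :
    P ≤ centralizer (K : Set G) := by
  have hperf' : commutator ↥P = ⊤ := Subgroup.map_injective P.subtype_injective (by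
    rw [Subgroup.map_subtype_commutator, ← MonoidHom.range_eq_map, Subgroup.range_subtype, hperf])
  intro p hp
  rw [mem_centralizer_iff]
  intro k hk
  have h := CfsgLib.PerfectCentSylow.act_trivial S (conjOn hPK) hperf'
    (fun a x hx => Subtype.ext (by rw [conjOn_apply, hS x hx a a.2, mul_inv_cancel_right]))
    (fun N hN hodd => hO N hN (CfsgLib.PF.oddSolvable _ hodd)) ⟨p, hp⟩
  have h' := congrArg Subtype.val (MulEquiv.congr_fun h ⟨k, hk⟩)
  rw [conjOn_apply, MulAut.one_apply] at h'
  exact (mul_inv_eq_iff_eq_mul.1 h').symm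

/-- The minimal case: `K` has no proper nontrivial invariant subgroup normalised by `K` and `A`. -/
theorem centFixed_minimal (hHHS : HHS.{u, u, 0}) (ih : CentFixedBound.{u} (Nat.card K))
    (hr : r.Prime) (hαr : α ^ r = 1)
    (hrG : ¬ r ∣ Nat.card G) (hK : Inv α K) (hA : Inv α A) (hAK : A ≤ normalizer (K : Set G))
    (hperf : ⁅A, A⁆ = A) (hmov : moved α A = A)
    (hcent : ∀ c ∈ K, α c = c → ∀ a ∈ A, a * c = c * a) (hK1 : K ≠ ⊥)
    (hmin : ∀ N : Subgroup G, Inv α N → N ≤ K → K ≤ normalizer (N : Set G) →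
      A ≤ normalizer (N : Set G) → N = ⊥ ∨ N = K) :
    A ≤ centralizer (K : Set G) := by
  have : Fact (Nat.Prime 2) := ⟨Nat.prime_two⟩
  have hKA : ∀ a ∈ A, ∀ k ∈ K, a * k * a⁻¹ ∈ K := fun a ha k hk => (mem_normalizer_iff.1 (hAK ha) k).1 hk
  by_cases hsol : Group.IsSolvable K
  · -- `K` is an elementary abelian group
    have hder : ⁅K, K⁆ = ⊥ := by
      rcases hmin ⁅K, K⁆ (by rw [FlavellFpf.Inv, Subgroup.map_commutator, hK]) (Subgroup.commutator_le_self K)
        (fun g hg => mem_normalizer_of_conj_mem fun x hx => by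
          have := Subgroup.mem_map_of_mem (MulAut.conj g).toMonoidHom hx
          rw [Subgroup.map_commutator] at this
          exact Subgroup.commutator_mono (K₁ := K) (K₂ := K) (H₁ := K.map _) (H₂ := K.map _)
            (by rintro _ ⟨y, hy, rfl⟩; exact K.mul_mem (K.mul_mem hg hy) (K.inv_mem hg))
            (by rintro _ ⟨y, hy, rfl⟩; exact K.mul_mem (K.mul_mem hg hy) (K.inv_mem hg)) this)
        (fun g hg => mem_normalizer_of_conj_mem fun x hx => by
          have := Subgroup.mem_map_of_mem (MulAut.conj g).toMonoidHom hx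
          rw [Subgroup.map_commutator] at this
          exact Subgroup.commutator_mono (K₁ := K) (K₂ := K) (H₁ := K.map _) (H₂ := K.map _)
            (by rintro _ ⟨y, hy, rfl⟩; exact hKA g hg y hy)
            (by rintro _ ⟨y, hy, rfl⟩; exact hKA g hg y hy) this) with h | h
      · exact h
      · exact absurd (eq_bot_of_perfect_le_solvable h le_rfl hsol) hK1
    have hab : ∀ x ∈ K, ∀ y ∈ K, x * y = y * x := fun x hx y hy => by
      rw [← commutatorElement_eq_one_iff_mul_comm, ← Subgroup.mem_bot, ← hder]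
      exact Subgroup.commutator_mem_commutator hx hy
    haveI := (Subgroup.nontrivial_iff_ne_bot K).2 hK1
    obtain ⟨q, hq, hqK⟩ := Nat.exists_prime_and_dvd (Finite.one_lt_card (α := K)).ne'
    haveI : Fact q.Prime := ⟨hq⟩
    let Ω : Subgroup G :=
      { carrier := {x | x ∈ K ∧ x ^ q = 1}
        one_mem' := ⟨K.one_mem, one_pow q⟩
        mul_mem' := fun {x y} hx hy => ⟨K.mul_mem hx.1 hy.1, by
          rw [(show Commute x y from hab x hx.1 y hy.1).mul_pow, hx.2, hy.2, one_mul]⟩
        inv_mem' := fun {x} hx => ⟨K.inv_mem hx.1, by rw [inv_pow, hx.2, inv_one]⟩ }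
    have hΩ : Ω = K := by
      refine (hmin Ω (inv_of_forall fun x hx => ⟨hK.apply_mem hx.1, by rw [← map_pow, hx.2, map_one]⟩)
        (fun x hx => hx.1) (fun g hg => mem_normalizer_of_conj_mem fun x hx =>
          ⟨K.mul_mem (K.mul_mem hg hx.1) (K.inv_mem hg), by rw [conj_pow, hx.2, mul_one, mul_inv_cancel]⟩)
        (fun g hg => mem_normalizer_of_conj_mem fun x hx =>
          ⟨hKA g hg x hx.1, by rw [conj_pow, hx.2, mul_one, mul_inv_cancel]⟩)).resolve_left fun h => ?_
      obtain ⟨x, hx⟩ := exists_prime_orderOf_dvd_card' q hqK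
      have hmem : (x : G) ∈ Ω :=
        ⟨x.2, by rw [← SubgroupClass.coe_pow, ← hx, pow_orderOf_eq_one, OneMemClass.coe_one]⟩
      rw [h, Subgroup.mem_bot, OneMemClass.coe_eq_one] at hmem
      rw [hmem, orderOf_one] at hx
      exact hq.ne_one hx.symm
    have hKq : IsPGroup q K := fun x => ⟨1, Subtype.ext (by
      rw [pow_one, SubgroupClass.coe_pow, OneMemClass.coe_one]
      exact (show (x : G) ∈ Ω from hΩ.symm ▸ x.2).2)⟩
    exact centralizes_of_fixed hHHS hr hαr hrG hKq hK hA hAK hperf hA le_normalizer hmov.symm.le hcent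
  -- `K` has no solvable normal subgroup
  have hns : ∀ N : Subgroup ↥K, N.Normal → Group.IsSolvable N → N = ⊥ := by
    intro N hN hNs
    haveI := CfsgLib.Structure.solvableRadical_characteristic (G := ↥K)
    rcases hmin ((Cfsg.solvableRadical ↥K).map K.subtype) (hK.of_characteristic _)
      (Subgroup.map_subtype_le _)
      (fun g hg => CfsgLib.InvChar.mem_normalizer_map_of_characteristic _ (le_normalizer hg))
      (fun g hg => CfsgLib.InvChar.mem_normalizer_map_of_characteristic _ (hAK hg)) with h | h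
    · rw [Subgroup.map_eq_bot_iff_of_injective _ K.subtype_injective] at h
      exact le_bot_iff.1 (h ▸ CfsgLib.Structure.le_solvableRadical hN hNs)
    · refine absurd ?_ hsol
      have htop : Cfsg.solvableRadical ↥K = ⊤ := Subgroup.map_injective K.subtype_injective
        (by rw [h, ← MonoidHom.range_eq_map, Subgroup.range_subtype])
      exact CfsgLib.Structure.solvableRadical_eq_top_iff.1 htop
  set C0 : Subgroup G := K ⊓ fixedSub α with hC0def
  have hC0 : C0 ≠ ⊥ := by
    intro h0
    haveI : Group.IsNilpotent ↥K := CfsgLib.Frobenius.Thompson.isNilpotent_of_fixedPointFree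
      (resAut hK) (fun x hx => Subtype.ext (Subgroup.mem_bot.1
        (h0 ▸ (⟨x.2, congrArg Subtype.val hx⟩ : (x : G) ∈ C0)))) hr (fun x => by
        have hit : ∀ n : ℕ, (⇑(resAut hK))^[n] x = (resAut hK ^ n) x := fun n => by
          induction n with
          | zero => rfl
          | succ n ihn => rw [Function.iterate_succ_apply', ihn, pow_succ', MulAut.mul_apply]
        rw [hit, resAut_pow_eq_one hK hαr, MulAut.one_apply])
    exact hsol inferInstance
  set F : Subgroup G := K ⊓ centralizer (A : Set G) with hFdef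
  have hFi : Inv α F := hK.inf hA.centralizer
  have hC0F : C0 ≤ F := fun x hx =>
    ⟨hx.1, mem_centralizer_iff.2 fun a ha => hcent x hx.1 hx.2 a ha⟩
  rcases Nat.even_or_odd (Nat.card F) with heven | hodd
  · obtain ⟨W0, hW0F, hW0p, hW0i, hW0α⟩ := exists_invariant_sylowOf (p := 2) hr hαr hrG F hFi
    have hW0 : W0 ≠ ⊥ := by
      intro h
      rw [h, Subgroup.relIndex_bot_left] at hW0i
      exact hW0i (even_iff_two_dvd.1 heven)
    have hrK : ¬ r ∣ Nat.card ↥K := fun h => hrG (h.trans K.card_subgroup_dvd_card)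
    obtain ⟨S, hWS, hSi⟩ := exists_invariant_sylow_ge hr (resAut_pow_eq_one hK hαr) hrK
      (W0.subgroupOf K) (hW0p.of_equiv (Subgroup.subgroupOfEquivOfLe (hW0F.trans inf_le_left)).symm)
      (inv_of_forall (α := resAut hK) fun x hx => Subgroup.mem_subgroupOf.2
        ((show Inv α W0 from hW0α).apply_mem (Subgroup.mem_subgroupOf.1 hx)))
    set S' : Subgroup G := (S : Subgroup ↥K).map K.subtype with hS'def
    have hS'p : IsPGroup 2 S' := S.2.map _
    have hS'i : Inv α S' := inv_of_forall fun y hy => by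
      obtain ⟨x, hx, rfl⟩ := hy
      exact ⟨resAut hK x, (show Inv (resAut hK) (S : Subgroup ↥K) from hSi).apply_mem hx, rfl⟩
    have hS'K : S' ≤ K := Subgroup.map_subtype_le _
    set W : Subgroup G := S' ⊓ F with hWdef
    have hW : W ≠ ⊥ := fun h => hW0 (le_bot_iff.1 (h ▸ le_inf (fun x hx =>
      ⟨⟨x, (hW0F hx).1⟩, hWS (Subgroup.mem_subgroupOf.2 hx), rfl⟩) hW0F))
    by_cases hWS' : S' ≤ W
    · refine le_centralizer_of_sylow hAK hperf (S := S) (fun x hx a ha => ?_) hns
      exact mem_centralizer_iff.1 (hWS' ⟨x, hx, rfl⟩).2.2 a ha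
    exfalso
    set N : Subgroup G := K ⊓ normalizer (W : Set G) with hNdef
    have hAW : A ≤ normalizer (W : Set G) := fun a ha => mem_normalizer_of_conj_mem fun x hx => by
      rw [mem_centralizer_iff.1 hx.2.2 a ha, mul_inv_cancel_right]; exact hx
    have hWi : Inv α W := hS'i.inf hFi
    have hNK : Nat.card N < Nat.card K := by
      refine lt_of_le_of_ne (Subgroup.card_le_of_le inf_le_left) fun he => hW ?_
      have hKW : K ≤ normalizer (W : Set G) := fun x hx =>
        ((le_of_eq (Subgroup.eq_of_le_of_card_ge inf_le_left he.ge).symm) hx).2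
      rcases hmin W hWi (fun x hx => hx.2.1) hKW hAW with h | h
      · exact h
      · exact absurd (fun x hx => h.symm ▸ hS'K hx) hWS'
    have hAN : A ≤ normalizer (N : Set G) := fun a ha => mem_normalizer_of_conj_mem fun x hx =>
      ⟨hKA a ha x hx.1, (normalizer (W : Set G)).mul_mem
        ((normalizer (W : Set G)).mul_mem (hAW ha) hx.2) ((normalizer (W : Set G)).inv_mem (hAW ha))⟩
    have hcN := ih α r N A hNK hr hαr hrG (hK.inf hWi.normalizer) hA hAN hperf hmov
      fun c hc => hcent c hc.1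
    have hlt : W.subgroupOf S' < ⊤ := by
      rw [lt_top_iff_ne_top, Ne, Subgroup.subgroupOf_eq_top]; exact hWS'
    haveI : Group.IsNilpotent ↥S' := hS'p.isNilpotent
    obtain ⟨x, hxN, hxW⟩ := SetLike.exists_of_lt ((Group.normalizerCondition_of_isNilpotent) _ hlt)
    refine hxW (Subgroup.mem_subgroupOf.2 ⟨x.2, hS'K x.2, mem_centralizer_iff.2 fun a ha => ?_⟩)
    refine (mem_centralizer_iff.1 (hcN ha) _ ⟨hS'K x.2, mem_normalizer_of_conj_mem fun y hy => ?_⟩).symm
    have h1 := (mem_normalizer_iff.1 hxN ⟨y, hy.1⟩).1 (Subgroup.mem_subgroupOf.2 hy)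
    exact Subgroup.mem_subgroupOf.1 h1
  · obtain ⟨S', hS'K, hS'p, hS'idx, hS'α⟩ := exists_invariant_sylowOf (p := 2) hr hαr hrG K hK
    have hS'i : Inv α S' := hS'α
    let S : Sylow 2 ↥K :=
      (hS'p.of_equiv (Subgroup.subgroupOfEquivOfLe hS'K).symm).toSylow hS'idx
    have hSfix : ∀ c ∈ S', α c = c → c = 1 := by
      intro c hc hfix
      have hcF : c ∈ F := hC0F ⟨hS'K hc, hfix⟩
      obtain ⟨i, hi⟩ := IsPGroup.iff_orderOf.1 hS'p ⟨c, hc⟩
      rw [Subgroup.orderOf_mk] at hi
      rcases Nat.eq_zero_or_pos i with rfl | hi0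
      · exact orderOf_eq_one_iff.1 (by rw [hi, pow_zero])
      · exact absurd (hodd.of_dvd_nat (Subgroup.orderOf_dvd_natCard F hcF))
          (Nat.not_odd_iff_even.2 (hi ▸ (Nat.even_pow.2 ⟨even_two, hi0.ne'⟩)))
    -- the normalizer of `S'` in `K ⊔ A`
    set B : Subgroup G := (K ⊔ A) ⊓ normalizer (S' : Set G) with hBdef
    have hBi : Inv α B := (hK.sup hA).inf hS'i.normalizer
    have hMK : K ⊔ A ≤ normalizer (K : Set G) := sup_le le_normalizer hAK
    have hfrat : ∀ a ∈ A, ∃ k ∈ K, k * a ∈ B := by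
      intro a ha
      obtain ⟨k, hk⟩ := MulAction.exists_smul_eq ↥K
        (((conjOn hAK ⟨a, ha⟩ : MulAut ↥K) • S : Sylow 2 ↥K)) S
      refine ⟨k, k.2, Subgroup.mul_mem_sup k.2 ha, mem_normalizer_of_conj_mem fun y hy => ?_⟩
      have hyS : (⟨y, hS'K hy⟩ : ↥K) ∈ (S : Subgroup ↥K) := Subgroup.mem_subgroupOf.2 hy
      have h1 : conjOn hAK ⟨a, ha⟩ ⟨y, hS'K hy⟩ ∈
          ((conjOn hAK ⟨a, ha⟩ : MulAut ↥K) • S : Sylow 2 ↥K).toSubgroup := ⟨_, hyS, rfl⟩
      have h2 : k * conjOn hAK ⟨a, ha⟩ ⟨y, hS'K hy⟩ * k⁻¹ ∈ (S : Subgroup ↥K) := by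
        have := Subgroup.smul_mem_pointwise_smul _ (MulAut.conj k) _ h1
        rw [← hk, Sylow.coe_subgroup_smul]
        exact this
      have h3 : (k : G) * (a * y * a⁻¹) * (k : G)⁻¹ ∈ S' := Subgroup.mem_subgroupOf.1 h2
      have e : (k : G) * a * y * ((k : G) * a)⁻¹ = (k : G) * (a * y * a⁻¹) * (k : G)⁻¹ := by group
      rw [e]; exact h3
    obtain ⟨P, hPle, hPperf, hPnorm, n, hPder⟩ := CfsgLib.InvChar.exists_perfect_core (moved α B)
    have hPi : Inv α P := by
      refine inv_of_forall fun x hx => ?_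
      have hmap : P.map α.toMonoidHom ≤ moved α B := by
        rintro _ ⟨y, hy, rfl⟩; exact (inv_moved hBi).apply_mem (hPle hy)
      have key : ∀ (m : ℕ), P.map α.toMonoidHom ≤ (derivedSeries ↥(moved α B) m).map (moved α B).subtype := by
        intro m
        induction m with
        | zero => rw [derivedSeries_zero, ← MonoidHom.range_eq_map, Subgroup.range_subtype]; exact hmap
        | succ m ihm =>
          rw [derivedSeries_succ, Subgroup.map_commutator]
          conv_lhs => rw [← hPperf, Subgroup.map_commutator]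
          exact Subgroup.commutator_mono ihm ihm
      exact hPder (key n ⟨x, hx, rfl⟩)
    have hBN : B ≤ normalizer (P : Set G) := fun b hb => hPnorm b (le_normalizer_moved B hb)
    have hPB : P ≤ B := hPle.trans (moved_le hBi)
    have hPK : P ≤ normalizer (K : Set G) := hPB.trans (inf_le_left.trans hMK)
    have hPS : P ≤ centralizer (S' : Set G) :=
      centralizes_of_fixed hHHS hr hαr hrG hS'p hS'i hBi inf_le_right hPperf hPi hBN hPle
        (fun c hc hfix x _ => by rw [hSfix c hc hfix, mul_one, one_mul])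
    have hPC : P ≤ centralizer (K : Set G) := le_centralizer_of_sylow hPK hPperf (S := S)
      (fun x hx p hp => (mem_centralizer_iff.1 (hPS hp) x (Subgroup.mem_subgroupOf.1 hx)).symm) hns
    -- `A ≤ K P`
    have hcover : ∀ a ∈ A, ∃ k ∈ K, ∃ p ∈ P, a = k * p := by
      let L : Subgroup G := normalizer (K : Set G)
      let K' : Subgroup ↥L := K.subgroupOf L
      haveI : K'.Normal := normal_subgroupOf_of_le_normalizer le_rfl
      let π : ↥L →* ↥L ⧸ K' := QuotientGroup.mk' K'
      have hDL : moved α B ≤ L := (moved_le hBi).trans (inf_le_left.trans hMK)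
      let g : ↥(moved α B) →* ↥L ⧸ K' := π.comp (Subgroup.inclusion hDL)
      have hbase : (A.subgroupOf L).map π ≤ (⊤ : Subgroup ↥(moved α B)).map g := by
        rintro _ ⟨a, ha, rfl⟩
        have ha' : (a : G) ∈ K ⊔ moved α B := by
          have hle : moved α A ≤ K ⊔ moved α B := by
            refine (closure_le _).2 ?_
            rintro _ ⟨y, hy, rfl⟩
            obtain ⟨k, hk, hb⟩ := hfrat y hy
            have e : y⁻¹ * α y = ((k * y)⁻¹ * (k * (α k)⁻¹) * (k * y)) * ((k * y)⁻¹ * α (k * y)) := by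
              rw [map_mul]; group
            show y⁻¹ * α y ∈ K ⊔ moved α B
            rw [e]
            refine Subgroup.mul_mem_sup ?_ (mem_moved hb)
            have := (mem_normalizer_iff.1 (hMK ((K ⊔ A).inv_mem hb.1)) _).1
              (K.mul_mem hk (K.inv_mem (hK.apply_mem hk)))
            rwa [inv_inv] at this
          exact hle (hmov.symm ▸ Subgroup.mem_subgroupOf.1 ha)
        rw [← SetLike.mem_coe, Subgroup.coe_mul_of_right_le_normalizer_left _ _ hDL] at ha'
        obtain ⟨k, hk, d, hd, hkd⟩ := Set.mem_mul.1 ha'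
        refine ⟨⟨d, hd⟩, Subgroup.mem_top _, (QuotientGroup.eq (s := K')).2 ?_⟩
        refine Subgroup.mem_subgroupOf.2 ?_
        show d⁻¹ * (a : G) ∈ K
        rw [← hkd]
        have := (mem_normalizer_iff.1 ((normalizer (K : Set G)).inv_mem (hDL hd)) k).1 hk
        rwa [inv_inv, mul_assoc] at this
      have hperfQ : ⁅(A.subgroupOf L).map π, (A.subgroupOf L).map π⁆ = (A.subgroupOf L).map π := by
        rw [← Subgroup.map_commutator]
        refine congrArg (Subgroup.map π) (Subgroup.map_injective L.subtype_injective ?_)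
        rw [Subgroup.map_commutator, Subgroup.map_subgroupOf_eq_of_le (show A ≤ L from hAK), hperf]
      have hder : ∀ m : ℕ, (A.subgroupOf L).map π ≤ (derivedSeries ↥(moved α B) m).map g := by
        intro m
        induction m with
        | zero => rw [derivedSeries_zero]; exact hbase
        | succ m ihm =>
          rw [derivedSeries_succ, Subgroup.map_commutator, ← hperfQ]
          exact Subgroup.commutator_mono ihm ihm
      intro a ha
      obtain ⟨d, hd, hde⟩ := hder n (Subgroup.mem_map_of_mem π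
        (x := ⟨a, hAK ha⟩) (Subgroup.mem_subgroupOf.2 ha))
      have hdP : (d : G) ∈ P := hPder ⟨d, hd, rfl⟩
      refine ⟨a * (d : G)⁻¹, ?_, d, hdP, by group⟩
      have h1 := Subgroup.mem_subgroupOf.1 (QuotientGroup.eq.1 hde)
      have h2 := (mem_normalizer_iff.1 (hPK hdP) _).1 h1
      simpa [mul_assoc] using h2
    -- hence `A` induces an abelian group
    set M0 : Subgroup G := K ⊓ centralizer (C0 : Set G) with hM0def
    have hM0 : Nat.card M0 < Nat.card K := by
      refine lt_of_le_of_ne (Subgroup.card_le_of_le inf_le_left) fun he => hC0 ?_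
      have hKC : ∀ x ∈ K, x ∈ M0 := fun x hx => (le_of_eq (Subgroup.eq_of_le_of_card_ge inf_le_left he.ge).symm) hx
      have hZ : C0.subgroupOf K ≤ Subgroup.center ↥K := fun c hc => Subgroup.mem_center_iff.2 fun x =>
        Subtype.ext ((mem_centralizer_iff.1 (hKC x x.2).2 c (Subgroup.mem_subgroupOf.1 hc)).symm)
      have hZ' : Subgroup.center ↥K = ⊥ := hns _ inferInstance (isSolvable_of_comm fun a b =>
        Subtype.ext (Subgroup.mem_center_iff.1 b.2 a.1))
      exact le_bot_iff.1 fun c hc => by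
        have := hZ' ▸ hZ (x := ⟨c, hc.1⟩) (Subgroup.mem_subgroupOf.2 hc)
        exact Subgroup.mem_bot.2 (congrArg Subtype.val (Subgroup.mem_bot.1 this))
    have hM0n : A ≤ normalizer (M0 : Set G) := fun a ha => mem_normalizer_of_conj_mem fun x hx =>
      ⟨hKA a ha x hx.1, mem_centralizer_iff.2 fun c hc => by
        have h1 := hcent c hc.1 hc.2 a ha
        have h2 : a⁻¹ * c = c * a⁻¹ := by
          rw [inv_mul_eq_iff_eq_mul, ← mul_assoc, h1, mul_inv_cancel_right]
        calc c * (a * x * a⁻¹) = (c * a) * x * a⁻¹ := by group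
          _ = a * (c * x) * a⁻¹ := by rw [← h1]; group
          _ = a * (x * c) * a⁻¹ := by rw [mem_centralizer_iff.1 hx.2 c hc]
          _ = a * x * (c * a⁻¹) := by group
          _ = a * x * a⁻¹ * c := by rw [← h2]; group⟩
    have hM0c := ih α r M0 A hM0 hr hαr hrG
      (hK.inf (hK.inf inv_fixedSub).centralizer) hA hM0n hperf hmov fun c hc => hcent c hc.1
    have hinner : ∀ a ∈ A, ∃ k ∈ M0, ∀ x ∈ K, a * x * a⁻¹ = k * x * k⁻¹ := by
      intro a ha
      obtain ⟨k, hk, p, hp, rfl⟩ := hcover a ha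
      have hpx : ∀ x ∈ K, p * x = x * p := fun x hx => (mem_centralizer_iff.1 (hPC hp) x hx).symm
      have hconj : ∀ x ∈ K, k * p * x * (k * p)⁻¹ = k * x * k⁻¹ := fun x hx => by
        rw [mul_assoc k p x, hpx x hx]; group
      refine ⟨k, ⟨hk, mem_centralizer_iff.2 fun c hc => ?_⟩, hconj⟩
      have h1 := hcent c hc.1 hc.2 _ ha
      have h2 : k * c * k⁻¹ = c := by rw [← hconj c hc.1, h1, mul_inv_cancel_right]
      exact (mul_inv_eq_iff_eq_mul.1 h2).symm
    have hcomm : ∀ a b : ↥A, conjOn hAK a * conjOn hAK b = conjOn hAK b * conjOn hAK a := by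
      intro a b
      obtain ⟨k, hk, hka⟩ := hinner a a.2
      obtain ⟨l, hl, hlb⟩ := hinner b b.2
      have hkl : k * l = l * k := by
        have h1 := hka l hl.1
        rw [← mem_centralizer_iff.1 (hM0c a.2) l hl, mul_inv_cancel_right] at h1
        exact (eq_mul_inv_iff_mul_eq.1 h1).symm
      refine MulEquiv.ext fun x => Subtype.ext ?_
      rw [MulAut.mul_apply, MulAut.mul_apply, conjOn_apply, conjOn_apply, conjOn_apply, conjOn_apply,
        hlb x x.2, hka x x.2, hka _ (K.mul_mem (K.mul_mem hl.1 x.2) (K.inv_mem hl.1)),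
        hlb _ (K.mul_mem (K.mul_mem hk.1 x.2) (K.inv_mem hk.1))]
      calc k * (l * x * l⁻¹) * k⁻¹ = (k * l) * x * (k * l)⁻¹ := by group
        _ = (l * k) * x * (l * k)⁻¹ := by rw [hkl]
        _ = l * (k * x * k⁻¹) * l⁻¹ := by group
    have hker : ⁅A, A⁆ ≤ centralizer (K : Set G) := by
      rw [Subgroup.commutator_le]
      intro a ha b hb
      have h1 : conjOn hAK ⁅(⟨a, ha⟩ : ↥A), ⟨b, hb⟩⁆ = 1 := by
        rw [map_commutatorElement, commutatorElement_eq_one_iff_mul_comm]; exact hcomm _ _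
      refine mem_centralizer_iff.2 fun x hx => ?_
      have h2 := congrArg Subtype.val (MulEquiv.congr_fun h1 ⟨x, hx⟩)
      rw [conjOn_apply, MulAut.one_apply] at h2
      exact (mul_inv_eq_iff_eq_mul.1 h2).symm
    rwa [hperf] at hker

theorem centFixedBound (hHHS : HHS.{u, u, 0}) (n : ℕ) : CentFixedBound.{u} n := by
  induction n with
  | zero => intro G _ _ α r K A h; exact absurd h (Nat.not_lt_zero _)
  | succ n ihn =>
    intro G _ _ α r K A hn hr hαr hrG hK hA hAK hperf hmov hcent
    have ih : CentFixedBound.{u} (Nat.card K) := fun {G'} _ _ α' r' K' A' h =>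
      ihn α' r' K' A' (lt_of_lt_of_le h (Nat.lt_succ_iff.1 hn))
    rcases eq_or_ne K ⊥ with rfl | hK1
    · exact fun a _ => mem_centralizer_iff.2 fun x hx => by
        rw [Subgroup.mem_bot.1 hx, one_mul, mul_one]
    by_cases h : ∀ N : Subgroup G, Inv α N → N ≤ K → K ≤ normalizer (N : Set G) →
        A ≤ normalizer (N : Set G) → N = ⊥ ∨ N = K
    · exact centFixed_minimal hHHS ih hr hαr hrG hK hA hAK hperf hmov hcent hK1 h
    · push Not at h
      obtain ⟨N, hN, hNK, hKN, hAN, hne, hlt⟩ := h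
      exact centFixed_of_step ih hr hαr hrG hK hA hAK hperf hmov hcent hN hNK hKN hAN hne hlt

/-- `P(K)`: a perfect `A = [A, α]` centralising `C_K(α)` centralises `K`. -/
theorem le_centralizer_of_fixed (hHHS : HHS.{u, u, 0}) (hr : r.Prime) (hαr : α ^ r = 1)
    (hrG : ¬ r ∣ Nat.card G) (hK : Inv α K) (hA : Inv α A) (hAK : A ≤ normalizer (K : Set G))
    (hperf : ⁅A, A⁆ = A) (hmov : moved α A = A)
    (hcent : ∀ c ∈ K, α c = c → ∀ a ∈ A, a * c = c * a) : A ≤ centralizer (K : Set G) :=
  centFixedBound hHHS (Nat.card K + 1) α r K A (Nat.lt_succ_self _) hr hαr hrG hK hA hAK hperf hmov hcent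

end CfsgLib.HHSCons
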