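import Cfsg.Agent.Lib.HHSCons.Layer

/-!
A quasisimple subgroup commuting with its conjugates under the fixed points of `α` and the powers of
`α` is a component of the fixed point group, a component, or lies in an invariant component.
-/

set_option autoImplicit false
set_option linter.unusedSectionVars false

namespace CfsgLib.HHSCons

open Subgroup CfsgLib.CoprimeCentral CfsgLib.FlavellFpf CfsgLib.FlavellHHS CfsgLib.Components
open scoped commutatorElement

universe u

variable {G : Type u} [Group G] [Finite G] {α : MulAut G} {r : ℕ}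

omit [Finite G] in
theorem map_mulAut_mul (f g : MulAut G) (K : Subgroup G) :
    K.map (f * g).toMonoidHom = (K.map g.toMonoidHom).map f.toMonoidHom := by
  rw [Subgroup.map_map]; rfl

omit [Finite G] in
theorem map_mulAut_one (K : Subgroup G) : K.map (1 : MulAut G).toMonoidHom = K := Subgroup.map_id K

/-- A subgroup fixed by a nontrivial power of `α` is fixed by `α`. -/
theorem map_eq_of_pow (hr : r.Prime) (hαr : α ^ r = 1) {K : Subgroup G} {j : ℕ} (hj : ¬ r ∣ j)
    (hK : K.map (α ^ j).toMonoidHom = K) : K.map α.toMonoidHom = K := by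
  obtain ⟨m, -, hm⟩ := Nat.exists_mul_mod_eq_one_of_coprime
    (Nat.Coprime.symm ((Nat.Prime.coprime_iff_not_dvd hr).2 hj)) hr.one_lt
  have h1 : ∀ n : ℕ, K.map ((α ^ j) ^ n).toMonoidHom = K := by
    intro n
    induction n with
    | zero => exact map_mulAut_one K
    | succ n ih => rw [pow_succ', map_mulAut_mul, ih, hK]
  have h2 := h1 m
  rw [← pow_mul, pow_eq_pow_mod (j * m) hαr, hm, pow_one] at h2
  exact h2

theorem mem_normalizer_sup {A B : Subgroup G} {g : G} (hA : g ∈ normalizer (A : Set G))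
    (hB : g ∈ normalizer (B : Set G)) : g ∈ normalizer ((A ⊔ B : Subgroup G) : Set G) := by
  refine mem_normalizer_of_conj_mem fun x hx => ?_
  refine (show (A ⊔ B).map (MulAut.conj g).toMonoidHom ≤ A ⊔ B from ?_) ⟨x, hx, rfl⟩
  rw [Subgroup.map_sup]
  refine sup_le_sup ?_ ?_
  · rintro _ ⟨y, hy, rfl⟩; exact (mem_normalizer_iff.1 hA y).1 hy
  · rintro _ ⟨y, hy, rfl⟩; exact (mem_normalizer_iff.1 hB y).1 hy

/-- Commutators modulo a normalised subgroup. -/
theorem commutator_sup_le {A B N : Subgroup G} (hA : A ≤ normalizer (N : Set G))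
    (hB : B ≤ normalizer (N : Set G)) (hAB : ⁅A, B⁆ ≤ N) : ⁅A ⊔ N, B ⊔ N⁆ ≤ N := by
  rw [Subgroup.commutator_le]
  intro x hx y hy
  rw [← SetLike.mem_coe, Subgroup.coe_mul_of_left_le_normalizer_right _ _ hA] at hx
  rw [← SetLike.mem_coe, Subgroup.coe_mul_of_left_le_normalizer_right _ _ hB] at hy
  obtain ⟨a, ha, n, hn, rfl⟩ := Set.mem_mul.1 hx
  obtain ⟨b, hb, n', hn', rfl⟩ := Set.mem_mul.1 hy
  let L : Subgroup G := normalizer (N : Set G)
  haveI : (N.subgroupOf L).Normal := normal_subgroupOf_of_le_normalizer le_rfl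
  have hNL : N ≤ L := le_normalizer
  let a' : ↥L := ⟨a, hA ha⟩
  let b' : ↥L := ⟨b, hB hb⟩
  let n1 : ↥L := ⟨n, hNL hn⟩
  let n2 : ↥L := ⟨n', hNL hn'⟩
  have h0 : ∀ z : ↥L, (z : G) ∈ N → QuotientGroup.mk' (N.subgroupOf L) z = 1 := fun z hz =>
    (QuotientGroup.eq_one_iff z).2 (Subgroup.mem_subgroupOf.2 hz)
  have h1 : QuotientGroup.mk' (N.subgroupOf L) ⁅a' * n1, b' * n2⁆ = 1 := by
    have hab : QuotientGroup.mk' (N.subgroupOf L) ⁅a', b'⁆ = 1 :=
      h0 _ (hAB (Subgroup.commutator_mem_commutator ha hb))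
    rw [map_commutatorElement, map_mul, map_mul, h0 n1 hn, h0 n2 hn', mul_one, mul_one,
      ← map_commutatorElement, hab]
  exact Subgroup.mem_subgroupOf.1 ((QuotientGroup.eq_one_iff _).1 h1)

/-- An element of a normalised `W` not containing the quasisimple `K`, normalising `K`, centralises it. -/
theorem mem_centralizer_of_quasisimple {K W : Subgroup G} (hK : Cfsg.IsQuasisimple ↥K)
    (hKW : K ≤ normalizer (W : Set G)) (hne : ¬ K ≤ W) {g : G} (hgW : g ∈ W)
    (hg : g ∈ normalizer (K : Set G)) : g ∈ centralizer (K : Set G) := by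
  have hperf : ⁅K, K⁆ = K := by
    rw [← Subgroup.map_subtype_commutator, quasisimple_commutator_eq_top hK,
      ← MonoidHom.range_eq_map, Subgroup.range_subtype]
  have hn : (W.subgroupOf K).Normal := by
    refine ⟨fun w hw k => Subgroup.mem_subgroupOf.2 ?_⟩
    exact (mem_normalizer_iff.1 (hKW k.2) w).1 (Subgroup.mem_subgroupOf.1 hw)
  have hcen : W.subgroupOf K ≤ Subgroup.center ↥K :=
    (quasisimple_normal_eq_top_or_le_center hK (W.subgroupOf K)).resolve_left fun h =>
      hne (Subgroup.subgroupOf_eq_top.1 h)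
  have hle : ⁅K, Subgroup.zpowers g⁆ ≤ K ⊓ W := by
    rw [Subgroup.commutator_le]
    intro k hk t ht
    have htW : t ∈ W := (Subgroup.zpowers_le.2 hgW) ht
    have htK : t ∈ normalizer (K : Set G) := (Subgroup.zpowers_le.2 hg) ht
    rw [commutatorElement_def]
    refine ⟨?_, W.mul_mem ((mem_normalizer_iff.1 (hKW hk) t).1 htW) (W.inv_mem htW)⟩
    have e : k * t * k⁻¹ * t⁻¹ = k * (t * k⁻¹ * t⁻¹) := by group
    rw [e]
    exact K.mul_mem hk ((mem_normalizer_iff.1 htK _).1 (K.inv_mem hk))
  have h1 : ⁅⁅K, Subgroup.zpowers g⁆, K⁆ = ⊥ :=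
    Subgroup.commutator_eq_bot_iff_le_centralizer.2 fun z hz => mem_centralizer_iff.2 fun k hk =>
      congrArg Subtype.val (Subgroup.mem_center_iff.1
        (hcen (x := ⟨z, (hle hz).1⟩) (Subgroup.mem_subgroupOf.2 (hle hz).2)) ⟨k, hk⟩)
  exact mem_centralizer_iff.2 fun k hk =>
    commute_of_commutator_eq_bot (commutator_eq_bot_of_perfect hperf h1) hk (Subgroup.mem_zpowers g)

/-- A component not centralised by `K` lies in a subgroup containing `K` that it normalises. -/
theorem component_le_of_normalized {M K W : Subgroup G} (hM : Cfsg.IsComponent M)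
    (hKM : K ≤ normalizer (M : Set G)) (hKW : K ≤ W) (hMW : M ≤ normalizer (W : Set G))
    (hnc : ¬ K ≤ centralizer (M : Set G)) : M ≤ W := by
  rcases component_eq_or_commutator_of_normalized hM (inf_le_left : M ⊓ W ≤ M)
    (fun g hg => mem_normalizer_of_conj_mem fun x hx =>
      ⟨M.mul_mem (M.mul_mem hg hx.1) (M.inv_mem hg), (mem_normalizer_iff.1 (hMW hg) x).1 hx.2⟩) with h | h
  · exact h ▸ inf_le_right
  · exfalso
    refine hnc (le_centralizer_iff.1 (le_centralizer_of_commutator_eq_bot
      (commutator_eq_bot_of_perfect (component_commutator_self hM) ?_)))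
    refine le_bot_iff.1 (le_trans (Subgroup.commutator_mono ?_ le_rfl)
      (by rw [Subgroup.commutator_comm]; exact h.le))
    rw [Subgroup.commutator_le]
    intro m hm k hk
    rw [commutatorElement_def]
    refine ⟨?_, W.mul_mem ((mem_normalizer_iff.1 (hMW hm) k).1 (hKW hk)) (W.inv_mem (hKW hk))⟩
    have e : m * k * m⁻¹ * k⁻¹ = m * (k * m⁻¹ * k⁻¹) := by group
    rw [e]
    exact M.mul_mem hm ((mem_normalizer_iff.1 (hKM hk) _).1 (M.inv_mem hm))

/-! ### Orbits of components -/

/-- The join of the images of `L` under the powers of `α`. -/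
def orbitSup (α : MulAut G) (L : Subgroup G) : Subgroup G := ⨆ i : ℕ, L.map (α ^ i).toMonoidHom

omit [Finite G] in
theorem map_pow_le_orbitSup (L : Subgroup G) (i : ℕ) : L.map (α ^ i).toMonoidHom ≤ orbitSup α L :=
  le_iSup (fun i : ℕ => L.map (α ^ i).toMonoidHom) i

omit [Finite G] in
theorem le_orbitSup (L : Subgroup G) : L ≤ orbitSup α L :=
  (le_of_eq (map_mulAut_one L).symm).trans (by simpa using map_pow_le_orbitSup (α := α) L 0)

omit [Finite G] in
theorem map_orbitSup {f : MulAut G} (hf : f * α = α * f) (L : Subgroup G) :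
    (orbitSup α L).map f.toMonoidHom = orbitSup α (L.map f.toMonoidHom) := by
  rw [orbitSup, orbitSup, Subgroup.map_iSup]
  refine iSup_congr fun i => ?_
  rw [← map_mulAut_mul, ← map_mulAut_mul, (Commute.pow_right (show Commute f α from hf) i).eq]

theorem inv_orbitSup (L : Subgroup G) : Inv α (orbitSup α L) := by
  refine inv_of_forall fun x hx => ?_
  refine (show (orbitSup α L).map α.toMonoidHom ≤ orbitSup α L from ?_) ⟨x, hx, rfl⟩
  rw [orbitSup, Subgroup.map_iSup]
  refine iSup_le fun i => ?_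
  rw [← map_mulAut_mul, ← pow_succ']
  exact map_pow_le_orbitSup L (i + 1)

omit [Finite G] in
theorem orbitSup_map_pow (hr : r.Prime) (hαr : α ^ r = 1) (L : Subgroup G) (i : ℕ) :
    orbitSup α (L.map (α ^ i).toMonoidHom) = orbitSup α L := by
  refine le_antisymm (iSup_le fun j => ?_) (iSup_le fun j => ?_)
  · rw [← map_mulAut_mul, ← pow_add]; exact map_pow_le_orbitSup L _
  · obtain ⟨s, rfl⟩ : ∃ s, r = s + 1 := ⟨r - 1, by have := hr.pos; omega⟩
    have h := map_pow_le_orbitSup (α := α) (L.map (α ^ i).toMonoidHom) (j + s * i)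
    rwa [← map_mulAut_mul, ← pow_add, show j + s * i + i = j + (s + 1) * i by ring, pow_add, pow_mul,
      hαr, one_pow, mul_one] at h

omit [Finite G] in
theorem isComponent_map_pow {L : Subgroup G} (hL : Cfsg.IsComponent L) (i : ℕ) :
    Cfsg.IsComponent (L.map (α ^ i).toMonoidHom) := isComponent_map_equiv (α ^ i) hL

omit [Finite G] in
theorem orbitSup_le_layer {L : Subgroup G} (hL : Cfsg.IsComponent L) :
    orbitSup α L ≤ Cfsg.layer G :=
  iSup_le fun i => component_le_layer (isComponent_map_pow hL i)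

theorem layer_le_normalizer_orbitSup {L : Subgroup G} (hL : Cfsg.IsComponent L) :
    Cfsg.layer G ≤ normalizer (orbitSup α L : Set G) := fun g hg => by
  refine mem_normalizer_of_conj_mem fun x hx => ?_
  refine (show (orbitSup α L).map (MulAut.conj g).toMonoidHom ≤ orbitSup α L from ?_) ⟨x, hx, rfl⟩
  rw [orbitSup, Subgroup.map_iSup]
  refine iSup_mono fun i => ?_
  rintro _ ⟨y, hy, rfl⟩
  exact (mem_normalizer_iff.1 (layer_le_normalizer_component (isComponent_map_pow hL i) hg) y).1 hy

/-- The part of the layer centralising `M`. -/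
def centLayer (M : Subgroup G) : Subgroup G := Cfsg.layer G ⊓ centralizer (M : Set G)

theorem layer_le_normalizer_centLayer {M : Subgroup G} (hM : Cfsg.IsComponent M) :
    Cfsg.layer G ≤ normalizer (centLayer M : Set G) := fun g hg => by
  refine mem_normalizer_of_conj_mem fun x hx => ⟨(Cfsg.layer G).mul_mem ((Cfsg.layer G).mul_mem hg hx.1) ((Cfsg.layer G).inv_mem hg),
    mem_centralizer_iff.2 fun m hm => ?_⟩
  have hm' : g⁻¹ * m * g ∈ M := by
    have := (mem_normalizer_iff.1 (layer_le_normalizer_component hM (inv_mem hg)) m).1 hm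
    rwa [inv_inv] at this
  calc m * (g * x * g⁻¹) = g * ((g⁻¹ * m * g) * x) * g⁻¹ := by group
    _ = g * (x * (g⁻¹ * m * g)) * g⁻¹ := by rw [mem_centralizer_iff.1 hx.2 _ hm']
    _ = g * x * g⁻¹ * m := by group

theorem not_le_centLayer {M : Subgroup G} (hM : Cfsg.IsComponent M) : ¬ M ≤ centLayer M := fun h =>
  component_commutator_ne_bot hM (Subgroup.commutator_eq_bot_iff_le_centralizer.2 (h.trans inf_le_right))

theorem component_ne_of_moved (hr : r.Prime) (hαr : α ^ r = 1) {M : Subgroup G}
    (hmove : M.map α.toMonoidHom ≠ M) {i : ℕ} (hi : ¬ r ∣ i) : M.map (α ^ i).toMonoidHom ≠ M :=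
  fun h => hmove (map_eq_of_pow hr hαr hi h)

/-- The part of the orbit away from `M` centralises `M`. -/
theorem map_pow_le_centLayer (hr : r.Prime) (hαr : α ^ r = 1) {M : Subgroup G} (hM : Cfsg.IsComponent M)
    (hmove : M.map α.toMonoidHom ≠ M) {i : ℕ} (hi : ¬ r ∣ i) :
    M.map (α ^ i).toMonoidHom ≤ centLayer M :=
  le_inf (component_le_layer (isComponent_map_pow hM i)) (le_centralizer_of_commutator_eq_bot
    (commutator_components_eq_bot (isComponent_map_pow hM i) hM (component_ne_of_moved hr hαr hmove hi)))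

theorem orbitSup_le_sup_centLayer (hr : r.Prime) (hαr : α ^ r = 1) {M : Subgroup G}
    (hM : Cfsg.IsComponent M) (hmove : M.map α.toMonoidHom ≠ M) :
    orbitSup α M ≤ M ⊔ centLayer M := by
  refine iSup_le fun i => ?_
  by_cases hi : r ∣ i
  · obtain ⟨k, rfl⟩ := hi
    rw [pow_mul, hαr, one_pow, map_mulAut_one]
    exact le_sup_left
  · exact (map_pow_le_centLayer hr hαr hM hmove hi).trans le_sup_right

/-- Every element of a moved component agrees with a fixed element on that component. -/
theorem exists_fixed_diag (hr : r.Prime) (hαr : α ^ r = 1) {M : Subgroup G} (hM : Cfsg.IsComponent M)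
    (hmove : M.map α.toMonoidHom ≠ M) {m : G} (hm : m ∈ M) :
    ∃ d ∈ orbitSup α M, α d = d ∧ m⁻¹ * d ∈ centLayer M := by
  have key : ∀ n : ℕ, n < r → ∃ R ∈ orbitSup α M ⊓ centLayer M, α (m * R) = R * (α ^ (n + 1)) m := by
    intro n
    induction n with
    | zero => intro _; exact ⟨1, one_mem _, by simp⟩
    | succ n ih =>
      intro hn
      obtain ⟨R, hR, hRe⟩ := ih (by omega)
      have hnd : ¬ r ∣ n + 1 := fun h => by have := Nat.le_of_dvd (by omega) h; omega
      have hmem : (α ^ (n + 1)) m ∈ M.map (α ^ (n + 1)).toMonoidHom := ⟨m, hm, rfl⟩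
      refine ⟨R * (α ^ (n + 1)) m, mul_mem hR ⟨map_pow_le_orbitSup M _ hmem,
        map_pow_le_centLayer hr hαr hM hmove hnd hmem⟩, ?_⟩
      rw [← mul_assoc, map_mul, hRe, ← MulAut.mul_apply G α (α ^ (n + 1)), ← pow_succ']
  obtain ⟨s, rfl⟩ : ∃ s, r = s + 1 := ⟨r - 1, by have := hr.pos; omega⟩
  obtain ⟨R, hR, hRe⟩ := key s (by omega)
  rw [hαr, MulAut.one_apply, ← mem_centralizer_iff.1 hR.2.2 m hm] at hRe
  exact ⟨m * R, mul_mem (le_orbitSup M hm) hR.1, hRe, by simpa using hR.2⟩

/-- A quasisimple subgroup of a moved orbit, commuting with its conjugates under fixed elements of the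
orbit, is normalised by these and covers every component of the orbit that it does not centralise. -/
theorem cover (hr : r.Prime) (hαr : α ^ r = 1) {K M : Subgroup G} (hM : Cfsg.IsComponent M)
    (hmove : M.map α.toMonoidHom ≠ M) (hKO : K ≤ orbitSup α M)
    (hpair : ∀ d ∈ orbitSup α M, α d = d → K.map (MulAut.conj d).toMonoidHom ≠ K →
      ⁅K, K.map (MulAut.conj d).toMonoidHom⁆ = ⊥)
    (hnc : ¬ K ≤ centralizer (M : Set G)) :
    M ≤ K ⊔ centLayer M ∧ ∀ d ∈ orbitSup α M, α d = d → K.map (MulAut.conj d).toMonoidHom = K := by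
  set O := orbitSup α M with hOdef
  have hOlay : O ≤ Cfsg.layer G := orbitSup_le_layer hM
  have hlayT := layer_le_normalizer_centLayer hM
  have hKM : K ≤ normalizer (M : Set G) := (hKO.trans hOlay).trans (layer_le_normalizer_component hM)
  have hKd : ∀ d ∈ O, K.map (MulAut.conj d).toMonoidHom ≤ Cfsg.layer G := by
    rintro d hd _ ⟨y, hy, rfl⟩
    exact mul_mem (mul_mem (hOlay hd) (hOlay (hKO hy))) (inv_mem (hOlay hd))
  set J : Subgroup G := sSup {P | ∃ d ∈ O, α d = d ∧ P = K.map (MulAut.conj d).toMonoidHom} with hJdef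
  have hKJ : K ≤ J := le_sSup ⟨1, one_mem _, map_one α, by rw [map_one, map_mulAut_one]⟩
  have hDJ : ∀ d ∈ O, α d = d → d ∈ normalizer (J : Set G) := by
    intro d hd hdf
    refine mem_normalizer_of_conj_mem fun x hx => ?_
    refine (show J.map (MulAut.conj d).toMonoidHom ≤ J from ?_) ⟨x, hx, rfl⟩
    rw [Subgroup.map_le_iff_le_comap]
    refine sSup_le fun P hP => Subgroup.map_le_iff_le_comap.1 ?_
    obtain ⟨e, he, hef, rfl⟩ := hP
    refine le_sSup ⟨d * e, mul_mem hd he, by rw [map_mul, hdf, hef], ?_⟩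
    rw [← map_mulAut_mul, ← map_mul]
  have hMJ : M ≤ normalizer ((J ⊔ centLayer M : Subgroup G) : Set G) := by
    intro m hm
    obtain ⟨d, hd, hdf, hmd⟩ := exists_fixed_diag hr hαr hM hmove hm
    have e : m = d * (m⁻¹ * d)⁻¹ := by group
    rw [e]
    exact mul_mem (mem_normalizer_sup (hDJ d hd hdf) (hlayT (hOlay hd)))
      (le_normalizer (Subgroup.mem_sup_right (inv_mem hmd)))
  have h1 : M ≤ J ⊔ centLayer M :=
    component_le_of_normalized hM hKM (hKJ.trans le_sup_left) hMJ hnc
  have hJK : J ⊔ centLayer M ≤ normalizer ((K ⊔ centLayer M : Subgroup G) : Set G) := by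
    refine sup_le (sSup_le ?_) (le_sup_right.trans le_normalizer)
    rintro P ⟨d, hd, hdf, rfl⟩
    intro x hx
    refine mem_normalizer_sup ?_ (hlayT (hKd d hd hx))
    by_cases h : K.map (MulAut.conj d).toMonoidHom = K
    · exact le_normalizer (h ▸ hx)
    · exact centralizer_le_normalizer _
        (le_centralizer_iff.1 (le_centralizer_of_commutator_eq_bot (hpair d hd hdf h)) hx)
  have h2 : M ≤ K ⊔ centLayer M :=
    component_le_of_normalized hM hKM le_sup_left (h1.trans hJK) hnc
  refine ⟨h2, fun d hd hdf => ?_⟩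
  by_contra hne
  refine not_le_centLayer hM ?_
  have h3 : M ≤ K.map (MulAut.conj d).toMonoidHom ⊔ centLayer M := by
    intro m hm
    have hm' : d⁻¹ * m * d ∈ M := by
      have := (mem_normalizer_iff.1 (layer_le_normalizer_component hM (inv_mem (hOlay hd))) m).1 hm
      rwa [inv_inv] at this
    have h4 : (MulAut.conj d).toMonoidHom (d⁻¹ * m * d) ∈
        (K ⊔ centLayer M).map (MulAut.conj d).toMonoidHom := ⟨_, h2 hm', rfl⟩
    rw [Subgroup.map_sup] at h4
    have e : (MulAut.conj d).toMonoidHom (d⁻¹ * m * d) = m := by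
      show d * (d⁻¹ * m * d) * d⁻¹ = m
      group
    rw [e] at h4
    refine (show (K.map (MulAut.conj d).toMonoidHom ⊔ (centLayer M).map (MulAut.conj d).toMonoidHom) ≤
      K.map (MulAut.conj d).toMonoidHom ⊔ centLayer M from sup_le_sup le_rfl ?_) h4
    rintro _ ⟨t, ht, rfl⟩
    exact (mem_normalizer_iff.1 (hlayT (hOlay hd)) t).1 ht
  calc M = ⁅M, M⁆ := (component_commutator_self hM).symm
    _ ≤ ⁅K ⊔ centLayer M, K.map (MulAut.conj d).toMonoidHom ⊔ centLayer M⁆ :=
      Subgroup.commutator_mono h2 h3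
    _ ≤ centLayer M := commutator_sup_le ((hKO.trans hOlay).trans hlayT) ((hKd d hd).trans hlayT)
      (by rw [hpair d hd hdf hne]; exact bot_le)

/-- The abstract form of the trichotomy. -/
theorem component_trichotomy (hHHS : HHS.{u, u, 0}) (hr : r.Prime) (hαr : α ^ r = 1)
    (hrG : ¬ r ∣ Nat.card G) (Γ : Subgroup (MulAut G)) (hαΓ : α ∈ Γ)
    (hCΓ : ∀ c, α c = c → MulAut.conj c ∈ Γ) (hΓα : ∀ f ∈ Γ, f * α = α * f)
    (K : Subgroup G) (hK : Cfsg.IsQuasisimple ↥K)
    (hcomm : ∀ f ∈ Γ, K.map f.toMonoidHom ≠ K → ⁅K, K.map f.toMonoidHom⁆ = ⊥) :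
    (K ≤ fixedSub α ∧ Cfsg.IsComponent (K.subgroupOf (fixedSub α))) ∨ Cfsg.IsComponent K ∨
      ∃ L : Subgroup G, Cfsg.IsComponent L ∧ L.map α.toMonoidHom = L ∧ K ≤ L := by
  have hperf : ∀ {P : Subgroup G}, Cfsg.IsQuasisimple ↥P → ⁅P, P⁆ = P := fun {P} hP => by
    rw [← Subgroup.map_subtype_commutator, quasisimple_commutator_eq_top hP,
      ← MonoidHom.range_eq_map, Subgroup.range_subtype]
  have hne : K ≠ ⊥ := (Subgroup.nontrivial_iff_ne_bot K).1 (quasisimple_nontrivial hK)
  have hqs : ∀ f : MulAut G, Cfsg.IsQuasisimple ↥(K.map f.toMonoidHom) := fun f =>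
    isQuasisimple_of_mulEquiv hK (K.equivMapOfInjective f.toMonoidHom f.injective)
  have hpair : ∀ f ∈ Γ, ∀ g ∈ Γ, K.map g.toMonoidHom ≠ K.map f.toMonoidHom →
      ⁅K.map f.toMonoidHom, K.map g.toMonoidHom⁆ = ⊥ := by
    intro f hf g hg hfg
    have e : f * (f⁻¹ * g) = g := mul_inv_cancel_left f g
    have h := hcomm (f⁻¹ * g) (Γ.mul_mem (Γ.inv_mem hf) hg) fun h => hfg (by
      have h' := congrArg (fun P : Subgroup G => P.map f.toMonoidHom) h
      rwa [← map_mulAut_mul, e] at h')
    have h' := congrArg (fun P : Subgroup G => P.map f.toMonoidHom) h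
    rwa [Subgroup.map_commutator, ← map_mulAut_mul, e, Subgroup.map_bot] at h'
  set E : Subgroup G := sSup {P | ∃ f ∈ Γ, P = K.map f.toMonoidHom} with hEdef
  have hle : ∀ f ∈ Γ, K.map f.toMonoidHom ≤ E := fun f hf => le_sSup ⟨f, hf, rfl⟩
  have hKE : K ≤ E := (le_of_eq (map_mulAut_one K).symm).trans (hle 1 Γ.one_mem)
  have hEst : ∀ f ∈ Γ, E.map f.toMonoidHom = E := fun f hf => map_sSup_eq_of_stable f (by
    rintro P ⟨g, hg, rfl⟩
    exact ⟨f * g, Γ.mul_mem hf hg, (map_mulAut_mul f g K).symm⟩)
  have hEi : Inv α E := hEst α hαΓ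
  have hCE : fixedSub α ≤ normalizer (E : Set G) := fun c hc => mem_normalizer_of_conj_mem fun x hx =>
    (le_of_eq (hEst _ (hCΓ c hc))) ⟨x, hx, rfl⟩
  have hEnorm : ∀ f ∈ Γ, E ≤ normalizer ((K.map f.toMonoidHom : Subgroup G) : Set G) := by
    intro f hf
    refine sSup_le ?_
    rintro P ⟨g, hg, rfl⟩
    by_cases h : K.map g.toMonoidHom = K.map f.toMonoidHom
    · rw [h]; exact le_normalizer
    · exact (le_centralizer_iff.1 (le_centralizer_of_commutator_eq_bot (hpair f hf g hg h))).trans
        (centralizer_le_normalizer _)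
  have hEperf : ⁅E, E⁆ = E := le_antisymm (Subgroup.commutator_le_self E) (sSup_le fun P hP => by
    obtain ⟨f, hf, rfl⟩ := hP
    exact (hperf (hqs f)).ge.trans (Subgroup.commutator_mono (hle f hf) (hle f hf)))
  by_cases hKC : K ≤ fixedSub α
  · left
    have hEC : E ≤ fixedSub α := by
      refine sSup_le ?_
      rintro _ ⟨f, hf, rfl⟩ _ ⟨x, hx, rfl⟩
      have h1 := MulEquiv.congr_fun (hΓα f hf) x
      rw [MulAut.mul_apply, MulAut.mul_apply, show α x = x from hKC hx] at h1
      exact h1.symm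
    refine ⟨hKC, ?_, isQuasisimple_of_mulEquiv hK (Subgroup.subgroupOfEquivOfLe hKC).symm⟩
    have hEn : (E.subgroupOf (fixedSub α)).Normal := normal_subgroupOf_of_le_normalizer hCE
    have hKn : ((K.subgroupOf (fixedSub α)).subgroupOf (E.subgroupOf (fixedSub α))).Normal := by
      refine normal_subgroupOf_of_le_normalizer fun x hx =>
        mem_normalizer_of_conj_mem fun y hy => Subgroup.mem_subgroupOf.2 ?_
      have hx' := hEnorm 1 Γ.one_mem (Subgroup.mem_subgroupOf.1 hx)
      rw [map_mulAut_one] at hx'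
      exact (mem_normalizer_iff.1 hx' (y : G)).1 (Subgroup.mem_subgroupOf.1 hy)
    have h2 := hKn.isSubnormal.trans' hEn.isSubnormal
    rwa [Subgroup.map_subgroupOf_eq_of_le
      (show K.subgroupOf (fixedSub α) ≤ E.subgroupOf (fixedSub α) from fun x hx => hKE hx)] at h2
  right
  -- `E = [E, α]`
  have hcompE : ∀ f ∈ Γ, Cfsg.IsComponent ((K.map f.toMonoidHom).subgroupOf E) := fun f hf =>
    ⟨(normal_subgroupOf_of_le_normalizer (hEnorm f hf)).isSubnormal,
      isQuasisimple_of_mulEquiv (hqs f) (Subgroup.subgroupOfEquivOfLe (hle f hf)).symm⟩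
  have hEmov : moved α E = E := by
    set E0 := moved α E with hE0
    have hE0E : E0 ≤ E := moved_le hEi
    have hE0n : (E0.subgroupOf E).Normal :=
      normal_subgroupOf_of_le_normalizer (le_normalizer_moved E)
    have hE0st : ∀ f ∈ Γ, E0.map f.toMonoidHom ≤ E0 := by
      intro f hf
      rw [Subgroup.map_le_iff_le_comap]
      refine (closure_le _).2 ?_
      rintro _ ⟨x, hx, rfl⟩
      show f (x⁻¹ * α x) ∈ E0
      have h1 := MulEquiv.congr_fun (hΓα f hf) x
      rw [MulAut.mul_apply, MulAut.mul_apply] at h1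
      rw [map_mul, map_inv, h1]
      exact mem_moved ((le_of_eq (hEst f hf)) ⟨x, hx, rfl⟩)
    refine le_antisymm hE0E ?_
    rcases le_or_commutator_eq_bot (hcompE 1 Γ.one_mem) hE0n.isSubnormal with h | h
    · have hK0 : K ≤ E0 := by
        have := le_of_subgroupOf_le (hle 1 Γ.one_mem) h
        rwa [map_mulAut_one] at this
      refine sSup_le ?_
      rintro _ ⟨f, hf, rfl⟩
      exact (Subgroup.map_mono hK0).trans (hE0st f hf)
    · exfalso
      apply hKC
      have h' := (commutator_subgroupOf_eq_bot_iff (hle 1 Γ.one_mem) hE0E).1 h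
      rw [map_mulAut_one] at h'
      have hcen : E0 ≤ centralizer (E : Set G) := le_centralizer_iff.1 (sSup_le fun P hP => by
        obtain ⟨f, hf, rfl⟩ := hP
        refine le_centralizer_of_commutator_eq_bot (le_bot_iff.1 ?_)
        have hst : E0.map f.toMonoidHom = E0 := Subgroup.eq_of_le_of_card_ge (hE0st f hf)
          (Nat.card_congr (E0.equivMapOfInjective f.toMonoidHom f.injective).toEquiv).le
        rw [← hst, ← Subgroup.map_commutator, h', Subgroup.map_bot])
      refine hKE.trans ?_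
      conv_lhs => rw [← hEperf]
      rw [Subgroup.commutator_le]
      intro a ha b hb
      have hza := hcen (mem_moved (α := α) ha)
      have hzb := hcen (mem_moved (α := α) hb)
      show α ⁅a, b⁆ = ⁅a, b⁆
      rw [map_commutatorElement]
      conv_lhs => rw [← mul_inv_cancel_left a (α a), ← mul_inv_cancel_left b (α b)]
      exact commutator_mul_mul (mem_centralizer_iff.1 hza b hb) (mem_centralizer_iff.1 hzb a ha)
        ((mem_centralizer_iff.1 hza _ (hE0E (mem_moved (α := α) hb))).symm)
  -- hence `E` lies in the layer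
  have hElay : E ≤ Cfsg.layer G := by
    refine le_trans ?_ (map_layer_le hHHS hr hαr hrG hEi hCE hEmov)
    refine sSup_le ?_
    rintro _ ⟨f, hf, rfl⟩
    rw [← Subgroup.map_subgroupOf_eq_of_le (hle f hf)]
    exact Subgroup.map_mono (component_le_layer (hcompE f hf))
  -- some conjugate lies in an orbit of components
  obtain ⟨L, hL, hKL⟩ : ∃ L, Cfsg.IsComponent L ∧ K ≤ orbitSup α L := by
    by_contra hno
    push Not at hno
    have hall : ∀ L, Cfsg.IsComponent L → E ≤ centralizer (orbitSup α L : Set G) := by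
      intro L hL
      refine le_centralizer_of_fixed hHHS hr hαr hrG (inv_orbitSup L) hEi
        (hElay.trans (layer_le_normalizer_orbitSup hL)) hEperf hEmov fun g hg hgf a ha => ?_
      have hgE : E ≤ centralizer ({g} : Set G) := by
        refine sSup_le ?_
        rintro P ⟨f, hf, rfl⟩
        set P := K.map f.toMonoidHom with hP
        have hPlay : P ≤ Cfsg.layer G := (hle f hf).trans hElay
        have hPO : P ≤ normalizer (orbitSup α L : Set G) := hPlay.trans (layer_le_normalizer_orbitSup hL)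
        have hnot : ¬ P ≤ orbitSup α L := fun h => hno (L.map (f⁻¹ : MulAut G).toMonoidHom)
          (isComponent_map_equiv _ hL) (by
            rw [← map_orbitSup (hΓα _ (Γ.inv_mem hf)) L]
            refine le_trans (le_of_eq ?_) (Subgroup.map_mono h)
            rw [hP, ← map_mulAut_mul, inv_mul_cancel, map_mulAut_one])
        have hgP : g ∈ normalizer (P : Set G) := by
          by_contra hgn
          have hne' : P.map (MulAut.conj g).toMonoidHom ≠ P := fun h =>
            hgn (mem_normalizer_of_conj_mem fun x hx => (le_of_eq h) ⟨x, hx, rfl⟩)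
          rw [hP, ← map_mulAut_mul] at hne'
          have hcP := hpair f hf _ (Γ.mul_mem (hCΓ g hgf) hf) hne'
          rw [map_mulAut_mul, ← hP] at hcP
          have hsup : P ≤ P.map (MulAut.conj g).toMonoidHom ⊔ orbitSup α L := by
            intro x hx
            have e : x = (g * x * g⁻¹) * (g * (x⁻¹ * g⁻¹ * x)) := by group
            rw [e]
            refine Subgroup.mul_mem_sup ⟨x, hx, rfl⟩ (mul_mem hg ?_)
            have := (mem_normalizer_iff.1 (hPO (inv_mem hx)) g⁻¹).1 (inv_mem hg)
            rwa [inv_inv] at this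
          have hPd : P.map (MulAut.conj g).toMonoidHom ≤ normalizer (orbitSup α L : Set G) := by
            rintro _ ⟨x, hx, rfl⟩
            exact mul_mem (mul_mem (le_normalizer hg) (hPO hx)) (inv_mem (le_normalizer hg))
          exact hnot ((hperf (hqs f)).ge.trans ((Subgroup.commutator_mono le_sup_left hsup).trans
            (commutator_sup_le hPO hPd (by rw [hcP]; exact bot_le))))
        have hgc := mem_centralizer_of_quasisimple (hqs f) hPO hnot hg hgP
        intro x hx
        rw [mem_centralizer_iff]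
        intro y hy
        rw [Set.mem_singleton_iff.1 hy]
        exact (mem_centralizer_iff.1 hgc x hx).symm
      exact (mem_centralizer_iff.1 (hgE ha) g rfl).symm
    have hlay : Cfsg.layer G ≤ centralizer (E : Set G) :=
      sSup_le fun L hL => (le_orbitSup L).trans (le_centralizer_iff.1 (hall L hL))
    refine hne (le_bot_iff.1 (hKE.trans ?_))
    rw [← hEperf, Subgroup.commutator_eq_bot_iff_le_centralizer.2 (hElay.trans hlay)]
  by_cases hfixL : L.map α.toMonoidHom = L
  · right
    refine ⟨L, hL, hfixL, hKL.trans (iSup_le fun i => le_of_eq ?_)⟩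
    induction i with
    | zero => exact map_mulAut_one L
    | succ i ih => rw [pow_succ', map_mulAut_mul, ih, hfixL]
  left
  -- the orbit is moved
  have hmove : ∀ i : ℕ, (L.map (α ^ i).toMonoidHom).map α.toMonoidHom ≠ L.map (α ^ i).toMonoidHom := by
    intro i h
    refine hfixL (Subgroup.map_injective (f := (α ^ i).toMonoidHom) (α ^ i).injective ?_)
    rw [← map_mulAut_mul, ← pow_succ, pow_succ', map_mulAut_mul, h]
  have hpairO : ∀ f ∈ Γ, ∀ d, α d = d →
      (K.map f.toMonoidHom).map (MulAut.conj d).toMonoidHom ≠ K.map f.toMonoidHom →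
      ⁅K.map f.toMonoidHom, (K.map f.toMonoidHom).map (MulAut.conj d).toMonoidHom⁆ = ⊥ := by
    intro f hf d hd h
    rw [← map_mulAut_mul] at h ⊢
    exact hpair f hf _ (Γ.mul_mem (hCΓ d hd) hf) h
  have hcoverK : ∀ M, Cfsg.IsComponent M → M.map α.toMonoidHom ≠ M → K ≤ orbitSup α M →
      ¬ K ≤ centralizer (M : Set G) →
      M ≤ K ⊔ centLayer M ∧ ∀ d ∈ orbitSup α M, α d = d → K.map (MulAut.conj d).toMonoidHom = K := by
    intro M hM hMm hKM hMc
    refine cover hr hαr hM hMm hKM (fun d _ hd h => ?_) hMc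
    have := hpairO 1 Γ.one_mem d hd
    rw [map_mulAut_one] at this
    exact this h
  obtain ⟨i, hi⟩ : ∃ i : ℕ, ¬ K ≤ centralizer ((L.map (α ^ i).toMonoidHom : Subgroup G) : Set G) := by
    by_contra h
    push Not at h
    refine hne ?_
    have hO : orbitSup α L ≤ centralizer (K : Set G) := iSup_le fun i => le_centralizer_iff.1 (h i)
    rw [← hperf hK, Subgroup.commutator_eq_bot_iff_le_centralizer]
    exact hKL.trans hO
  set M := L.map (α ^ i).toMonoidHom with hMdef
  have hM : Cfsg.IsComponent M := isComponent_map_pow hL i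
  have hMm : M.map α.toMonoidHom ≠ M := hmove i
  have hKM : K ≤ orbitSup α M := by rw [hMdef, orbitSup_map_pow hr hαr]; exact hKL
  have hOlay : orbitSup α M ≤ Cfsg.layer G := orbitSup_le_layer hM
  have hKlay : K ≤ Cfsg.layer G := hKM.trans hOlay
  obtain ⟨hcov, hnorm⟩ := hcoverK M hM hMm hKM hi
  by_cases hsingle : ∀ j : ℕ, ¬ r ∣ j → K ≤ centralizer ((M.map (α ^ j).toMonoidHom : Subgroup G) : Set G)
  · -- `K` lives on one component
    have hlayN := layer_le_normalizer_component hM
    have hKleM : K ≤ M := by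
      have hsplit : orbitSup α M ≤ M ⊔ (Cfsg.layer G ⊓ centralizer (K : Set G)) := iSup_le fun j => by
        by_cases hj : r ∣ j
        · obtain ⟨k, rfl⟩ := hj
          rw [pow_mul, hαr, one_pow, map_mulAut_one]
          exact le_sup_left
        · exact le_sup_of_le_right (le_inf (component_le_layer (isComponent_map_pow hM j))
            (le_centralizer_iff.1 (hsingle j hj)))
      have h1 : ⁅Cfsg.layer G ⊓ centralizer (K : Set G), K⁆ ≤ M :=
        le_trans (le_of_eq (Subgroup.commutator_eq_bot_iff_le_centralizer.2 inf_le_right)) bot_le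
      have h2 := commutator_sup_le (inf_le_left.trans hlayN) (hKlay.trans hlayN) h1
      rw [sup_comm (Cfsg.layer G ⊓ centralizer (K : Set G))] at h2
      exact (hperf hK).ge.trans ((Subgroup.commutator_mono (hKM.trans hsplit) le_sup_left).trans h2)
    have hMK : M ≤ normalizer (K : Set G) := by
      intro m hm
      have h := hcov hm
      rw [← SetLike.mem_coe, Subgroup.coe_mul_of_left_le_normalizer_right _ _
        (hKlay.trans (layer_le_normalizer_centLayer hM))] at h
      obtain ⟨k, hk, t, ht, rfl⟩ := Set.mem_mul.1 h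
      refine mul_mem (le_normalizer hk) (centralizer_le_normalizer _ (mem_centralizer_iff.2 fun y hy => ?_))
      exact mem_centralizer_iff.1 ht.2 y (hKleM hy)
    rcases component_eq_or_commutator_of_normalized hM hKleM hMK with h | h
    · exact h ▸ hM
    · exact absurd (le_centralizer_iff.1 (le_centralizer_of_commutator_eq_bot h)) hi
  exfalso
  push Not at hsingle
  obtain ⟨j, hj, hjc⟩ := hsingle
  -- `K` is invariant
  have hKinv : K.map α.toMonoidHom = K := by
    refine map_eq_of_pow hr hαr hj (by_contra fun hne' => ?_)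
    set M' := M.map (α ^ j).toMonoidHom with hM'def
    have hM' : Cfsg.IsComponent M' := isComponent_map_pow hM j
    have hM'm : M'.map α.toMonoidHom ≠ M' := by
      rw [hM'def, hMdef, ← map_mulAut_mul (α ^ j), ← pow_add]; exact hmove _
    have hKM' : K ≤ orbitSup α M' := by rw [hM'def, orbitSup_map_pow hr hαr]; exact hKM
    have hK'M' : K.map (α ^ j).toMonoidHom ≤ orbitSup α M' := by
      rw [hM'def, ← map_orbitSup ((Commute.pow_self α j).eq) M]
      exact Subgroup.map_mono hKM
    have hc' : ¬ K.map (α ^ j).toMonoidHom ≤ centralizer (M' : Set G) := fun h => hi fun k hk => by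
      refine mem_centralizer_iff.2 fun m hm => (α ^ j).injective ?_
      rw [map_mul, map_mul]
      exact mem_centralizer_iff.1 (h ⟨k, hk, rfl⟩) _ ⟨m, hm, rfl⟩
    have hjΓ : α ^ j ∈ Γ := Γ.pow_mem hαΓ j
    have h1 := (hcoverK M' hM' hM'm hKM' hjc).1
    have h2 := (cover hr hαr hM' hM'm hK'M' (fun d _ hd => hpairO _ hjΓ d hd) hc').1
    have hlayT := layer_le_normalizer_centLayer hM'
    refine not_le_centLayer hM' ((component_commutator_self hM').ge.trans
      ((Subgroup.commutator_mono h1 h2).trans (commutator_sup_le (hKlay.trans hlayT)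
        ((hle _ hjΓ).trans (hElay.trans hlayT)) ?_)))
    rw [hcomm _ hjΓ hne']; exact bot_le
  have hKp : ∀ t : ℕ, K.map (α ^ t).toMonoidHom = K := by
    intro t
    induction t with
    | zero => exact map_mulAut_one K
    | succ t ih => rw [pow_succ', map_mulAut_mul, ih, hKinv]
  -- every element of `K` is a fixed element times a central one
  have hdec : ∀ k ∈ K, ∃ x ∈ centralizer (orbitSup α M : Set G), ∃ d ∈ orbitSup α M,
      α d = d ∧ k = x * d ∧ x ∈ orbitSup α M := by
    intro k hk
    have hlayT := layer_le_normalizer_centLayer hM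
    have h := orbitSup_le_sup_centLayer hr hαr hM hMm (hKM hk)
    rw [← SetLike.mem_coe, Subgroup.coe_mul_of_left_le_normalizer_right _ _
      ((component_le_layer hM).trans hlayT)] at h
    obtain ⟨m, hm, t, ht, rfl⟩ := Set.mem_mul.1 h
    obtain ⟨d, hd, hdf, hmd⟩ := exists_fixed_diag hr hαr hM hMm hm
    set x := m * t * d⁻¹ with hxdef
    have hxT : x ∈ centLayer M := by
      have e : x = m * (t * (m⁻¹ * d)⁻¹) * m⁻¹ := by rw [hxdef]; group
      rw [e]
      exact (mem_normalizer_iff.1 (hlayT (component_le_layer hM hm)) _).1 (mul_mem ht (inv_mem hmd))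
    have hxO : x ∈ orbitSup α M := mul_mem (hKM hk) (inv_mem hd)
    have hxK : x ∈ normalizer (K : Set G) :=
      mul_mem (le_normalizer hk) (inv_mem (mem_normalizer_of_conj_mem fun y hy =>
        (le_of_eq (hnorm d hd hdf)) ⟨y, hy, rfl⟩))
    have hxc : x ∈ centralizer (K : Set G) :=
      mem_centralizer_of_quasisimple hK (hKlay.trans hlayT) (fun h => hi (h.trans inf_le_right)) hxT hxK
    refine ⟨x, ?_, d, hd, hdf, by rw [hxdef, inv_mul_cancel_right], hxO⟩
    suffices hO : orbitSup α M ≤ centralizer ({x} : Set G) from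
      mem_centralizer_iff.2 fun y hy => (mem_centralizer_iff.1 (hO hy) x rfl).symm
    refine iSup_le fun s => ?_
    set N := M.map (α ^ s).toMonoidHom with hNdef
    have hN : Cfsg.IsComponent N := isComponent_map_pow hM s
    have hNm : N.map α.toMonoidHom ≠ N := by
      rw [hNdef, hMdef, ← map_mulAut_mul (α ^ s), ← pow_add]; exact hmove _
    have hKN : K ≤ orbitSup α N := by rw [hNdef, orbitSup_map_pow hr hαr]; exact hKM
    have hNc : ¬ K ≤ centralizer (N : Set G) := fun h => hi fun k' hk' => by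
      refine mem_centralizer_iff.2 fun m' hm' => (α ^ s).injective ?_
      rw [map_mul, map_mul]
      exact mem_centralizer_iff.1 (h ((le_of_eq (hKp s)) ⟨k', hk', rfl⟩)) _ ⟨m', hm', rfl⟩
    have hlayN := layer_le_normalizer_centLayer hN
    have hxl : x ∈ Cfsg.layer G := hOlay hxO
    have hle1 : ⁅N, Subgroup.zpowers x⁆ ≤ N ⊓ centLayer N := by
      refine le_inf ?_ ?_
      · rw [Subgroup.commutator_le]
        intro a ha b hb
        rw [commutatorElement_def]
        have e : a * b * a⁻¹ * b⁻¹ = a * (b * a⁻¹ * b⁻¹) := by group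
        rw [e]
        exact N.mul_mem ha ((mem_normalizer_iff.1
          (layer_le_normalizer_component hN ((Subgroup.zpowers_le.2 hxl) hb)) _).1 (N.inv_mem ha))
      · refine (Subgroup.commutator_mono (hcoverK N hN hNm hKN hNc).1 le_sup_left).trans
          (commutator_sup_le (B := Subgroup.zpowers x) (hKlay.trans hlayN)
            (Subgroup.zpowers_le.2 (hlayN hxl)) ?_)
        rw [Subgroup.commutator_comm, Subgroup.commutator_eq_bot_iff_le_centralizer.2 (Subgroup.zpowers_le.2 hxc)]
        exact bot_le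
    have h1 : ⁅⁅N, Subgroup.zpowers x⁆, N⁆ = ⊥ :=
      Subgroup.commutator_eq_bot_iff_le_centralizer.2 fun z hz => (hle1 hz).2.2
    intro a ha
    refine mem_centralizer_iff.2 fun y hy => ?_
    rw [Set.mem_singleton_iff.1 hy]
    exact (commute_of_commutator_eq_bot (commutator_eq_bot_of_perfect (component_commutator_self hN) h1)
      ha (Subgroup.mem_zpowers x)).symm
  apply hKC
  conv_lhs => rw [← hperf hK]
  rw [Subgroup.commutator_le]
  intro a ha b hb
  obtain ⟨x, hx, d, hd, hdf, rfl, hxO⟩ := hdec a ha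
  obtain ⟨y, hy, e, he, hef, rfl, hyO⟩ := hdec b hb
  have hxd : x * d = d * x := (mem_centralizer_iff.1 hx d hd).symm
  have hye : y * e = e * y := (mem_centralizer_iff.1 hy e he).symm
  have hcd : ⁅x * d, y * e⁆ = ⁅d, e⁆ := by
    rw [hxd, hye]
    exact commutator_mul_mul (mem_centralizer_iff.1 hx e he)
      (mem_centralizer_iff.1 hy d hd) (mem_centralizer_iff.1 hy x hxO)
  show α ⁅x * d, y * e⁆ = ⁅x * d, y * e⁆
  rw [hcd, map_commutatorElement, hdf, hef]

end CfsgLib.HHSCons
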