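import Cfsg.Agent.Lib.HHSCons.CentFixed
import Cfsg.Agent.Lib.Components.FStarSubnormal

/-!
The layer of an invariant subgroup `H = [H, α]` normalised by the fixed points of `α` lies in the
layer of the whole group.
-/

set_option autoImplicit false

namespace CfsgLib.HHSCons

open Subgroup CfsgLib.CoprimeCentral CfsgLib.FlavellFpf CfsgLib.FlavellHHS CfsgLib.Components
open CfsgLib.Components39 (outsideLayer commutator_outsideLayer outsideLayer_normal map_generalizedFitting_equiv)
open scoped commutatorElement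

universe u

variable {G : Type u} [Group G] [Finite G] {α : MulAut G} {r : ℕ}

theorem map_subtype_moved {H : Subgroup G} (hH : Inv α H) (X : Subgroup ↥H) :
    (moved (resAut hH) X).map H.subtype = moved α (X.map H.subtype) := by
  rw [moved, MonoidHom.map_closure, moved]
  congr 1
  ext y
  constructor
  · rintro ⟨_, ⟨z, hz, rfl⟩, rfl⟩; exact ⟨z, ⟨z, hz, rfl⟩, rfl⟩
  · rintro ⟨_, ⟨z, hz, rfl⟩, rfl⟩; exact ⟨_, ⟨z, hz, rfl⟩, rfl⟩

/-- The join of a set of components, closed under an automorphism, is invariant. -/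
theorem map_sSup_eq_of_stable (e : MulAut G) {S : Set (Subgroup G)}
    (h : ∀ L ∈ S, L.map e.toMonoidHom ∈ S) : (sSup S).map e.toMonoidHom = sSup S := by
  refine Subgroup.eq_of_le_of_card_ge ?_
    (Nat.card_congr ((sSup S).equivMapOfInjective e.toMonoidHom e.injective).toEquiv).le
  rw [Subgroup.map_le_iff_le_comap]
  exact sSup_le fun L hL => Subgroup.map_le_iff_le_comap.1 (le_sSup (h L hL))

/-- A set of components has a perfect join. -/
theorem commutator_sSup_components {S : Set (Subgroup G)} (h : ∀ L ∈ S, Cfsg.IsComponent L) :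
    ⁅sSup S, sSup S⁆ = sSup S :=
  le_antisymm (Subgroup.commutator_le_self _) (sSup_le fun L hL =>
    (component_commutator_self (h L hL)).ge.trans
      (Subgroup.commutator_mono (le_sSup hL) (le_sSup hL)))

/-- A perfect subgroup of the generalized Fitting subgroup lies in the layer. -/
theorem perfect_le_layer {P : Subgroup G} (hP : ⁅P, P⁆ = P)
    (hle : P ≤ Cfsg.generalizedFittingSubgroup G) : P ≤ Cfsg.layer G := by
  let π := QuotientGroup.mk' (Cfsg.layer G)
  have hlay : (Cfsg.layer G).map π = ⊥ := by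
    rw [Subgroup.map_eq_bot_iff, QuotientGroup.ker_mk']
  have hle' : P.map π ≤ (Cfsg.fittingSubgroup G).map π := by
    refine (Subgroup.map_mono hle).trans ?_
    rw [Cfsg.generalizedFittingSubgroup, Subgroup.map_sup, hlay, bot_sup_eq]
  have hsol : Group.IsSolvable ↥((Cfsg.fittingSubgroup G).map π) :=
    haveI := fitting_isSolvable (G := G)
    Group.isSolvable_of_surjective (π.subgroupMap_surjective (Cfsg.fittingSubgroup G))
  have hbot := eq_bot_of_perfect_le_solvable
    (P := P.map π) (by rw [← Subgroup.map_commutator, hP]) hle' hsol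
  rwa [Subgroup.map_eq_bot_iff, QuotientGroup.ker_mk'] at hbot

omit [Finite G] in
theorem commutator_mul_mul {a b z w : G} (h1 : b * z = z * b) (h2 : a * w = w * a)
    (h3 : z * w = w * z) : ⁅a * z, b * w⁆ = ⁅a, b⁆ := by
  rw [commutatorElement_def, commutatorElement_def]
  have c1 : Commute z (b * w) := (show Commute z b from h1.symm).mul_right h3
  have c2 : Commute a⁻¹ w := (show Commute a w from h2).inv_left
  calc a * z * (b * w) * (a * z)⁻¹ * (b * w)⁻¹
      = a * (z * (b * w)) * z⁻¹ * a⁻¹ * (b * w)⁻¹ := by group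
    _ = a * ((b * w) * z) * z⁻¹ * a⁻¹ * (b * w)⁻¹ := by rw [c1.eq]
    _ = a * b * (w * a⁻¹) * w⁻¹ * b⁻¹ := by group
    _ = a * b * (a⁻¹ * w) * w⁻¹ * b⁻¹ := by rw [c2.eq]
    _ = a * b * a⁻¹ * b⁻¹ := by group

/-- The components of `H` outside `F*(G)`. -/
theorem outside_eq_bot (hHHS : HHS.{u, u, 0}) (hr : r.Prime) (hαr : α ^ r = 1)
    (hrG : ¬ r ∣ Nat.card G) {H : Subgroup G} (hH : Inv α H)
    (hC : fixedSub α ≤ normalizer (H : Set G)) (hmov : moved α H = H) :
    outsideLayer ((Cfsg.generalizedFittingSubgroup G).subgroupOf H) = ⊥ := by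
  haveI hFn := generalizedFitting_normal (G := G)
  set F : Subgroup G := Cfsg.generalizedFittingSubgroup G with hF
  set B : Subgroup ↥H := F.subgroupOf H with hB
  set A' : Subgroup ↥H := outsideLayer B with hA'def
  haveI hAn : A'.Normal := outsideLayer_normal B
  have hAB : ⁅A', B⁆ = ⊥ := commutator_outsideLayer (inferInstance : B.Normal).isSubnormal
  set β : MulAut ↥H := resAut hH with hβdef
  have hβr : β ^ r = 1 := resAut_pow_eq_one hH hαr
  have hrH : ¬ r ∣ Nat.card ↥H := fun h => hrG (h.trans H.card_subgroup_dvd_card)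
  -- automorphisms of `H` coming from automorphisms of `G` fixing `F`
  have hstab : ∀ (e : MulAut ↥H) (f : MulAut G), (∀ x : ↥H, ((e x : ↥H) : G) = f x) →
      F.map f.toMonoidHom = F → ∀ L : Subgroup ↥H, Cfsg.IsComponent L → ¬ L ≤ B →
      Cfsg.IsComponent (L.map e.toMonoidHom) ∧ ¬ L.map e.toMonoidHom ≤ B := by
    intro e f hef hf L hL hLB
    refine ⟨isComponent_map_equiv e hL, fun h => hLB fun x hx => ?_⟩
    have h1 : ((e x : ↥H) : G) ∈ F := Subgroup.mem_subgroupOf.1 (h ⟨x, hx, rfl⟩)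
    rw [hef] at h1
    obtain ⟨y, hy, hyx⟩ := hf.symm ▸ h1
    exact Subgroup.mem_subgroupOf.2 (f.injective hyx ▸ hy)
  have hFα : F.map α.toMonoidHom = F := map_generalizedFitting_equiv α
  have hAperf : ⁅A', A'⁆ = A' := commutator_sSup_components fun L hL => hL.1
  have hAi : Inv β A' := map_sSup_eq_of_stable β fun L hL =>
    hstab β α (fun x => rfl) hFα L hL.1 hL.2
  -- `A'` in the ambient group
  set A : Subgroup G := A'.map H.subtype with hAdef
  have hAF : ∀ z ∈ A ⊓ F, ∀ a ∈ A, a * z = z * a := by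
    rintro z ⟨⟨z', hz', rfl⟩, hzF⟩ _ ⟨a', ha', rfl⟩
    exact congrArg Subtype.val (commute_of_commutator_eq_bot hAB ha' (Subgroup.mem_subgroupOf.2 hzF))
  have hcent : ∀ c ∈ F, α c = c → ∀ a ∈ A, a * c = c * a := by
    intro c hcF hc a ha
    set D : Subgroup G := F ⊓ fixedSub α with hDdef
    have hDA : ∀ d ∈ D, ∀ x ∈ A, d * x * d⁻¹ ∈ A := by
      rintro d hd _ ⟨x, hx, rfl⟩
      let e : MulAut ↥H := Subgroup.normalizerMonoidHom H ⟨d, hC hd.2⟩
      have hstable : A'.map e.toMonoidHom = A' := map_sSup_eq_of_stable e fun L hL =>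
        hstab e (MulAut.conj d) (fun x => rfl) (by
          refine Subgroup.eq_of_le_of_card_ge ?_
            (Nat.card_congr (F.equivMapOfInjective _ (MulAut.conj d).injective).toEquiv).le
          rintro _ ⟨y, hy, rfl⟩
          exact hFn.conj_mem y hy d) L hL.1 hL.2
      exact ⟨e x, (le_of_eq hstable) ⟨x, hx, rfl⟩, rfl⟩
    have hAD : ⁅A, D⁆ ≤ A ⊓ F := by
      rw [Subgroup.commutator_le]
      intro x hx d hd
      rw [commutatorElement_def]
      refine ⟨?_, F.mul_mem (hFn.conj_mem d hd.1 x) (F.inv_mem hd.1)⟩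
      have : x * d * x⁻¹ * d⁻¹ = x * (d * x⁻¹ * d⁻¹) := by group
      rw [this]
      exact A.mul_mem hx (hDA d hd _ (A.inv_mem hx))
    have hFA : ⁅A ⊓ F, A⁆ = ⊥ := Subgroup.commutator_eq_bot_iff_le_centralizer.2
      fun z hz => mem_centralizer_iff.2 fun x hx => hAF z hz x hx
    have h1 : ⁅⁅A, D⁆, A⁆ = ⊥ := le_bot_iff.1 ((Subgroup.commutator_mono hAD le_rfl).trans hFA.le)
    have h2 : ⁅⁅D, A⁆, A⁆ = ⊥ := by rw [Subgroup.commutator_comm D A]; exact h1
    have h3 : ⁅⁅A, A⁆, D⁆ = ⊥ := Subgroup.commutator_commutator_eq_bot_of_rotate h1 h2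
    rw [hAdef, ← Subgroup.map_commutator, hAperf] at h3
    exact commute_of_commutator_eq_bot h3 ha ⟨hcF, hc⟩
  -- the components inside `[A', β]`
  set A0 : Subgroup ↥H := moved β A' with hA0def
  have hA0i : Inv β A0 := inv_moved hAi
  have hA0A : A0 ≤ A' := moved_le hAi
  have hA0sub : A0.IsSubnormal := by
    have h1 : (A0.subgroupOf A').Normal :=
      normal_subgroupOf_of_le_normalizer (le_normalizer_moved A')
    have h2 := h1.isSubnormal.trans' hAn.isSubnormal
    rwa [Subgroup.map_subgroupOf_eq_of_le hA0A] at h2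
  set A1 : Subgroup ↥H := sSup {L : Subgroup ↥H | Cfsg.IsComponent L ∧ ¬ L ≤ B ∧ L ≤ A0} with hA1def
  set A2 : Subgroup ↥H := sSup {L : Subgroup ↥H | Cfsg.IsComponent L ∧ ¬ L ≤ B ∧ ¬ L ≤ A0} with hA2def
  have hA1A0 : A1 ≤ A0 := sSup_le fun L hL => hL.2.2
  have hA12 : A' ≤ A1 ⊔ A2 := sSup_le fun L hL => by
    by_cases h : L ≤ A0
    · exact le_sup_of_le_left (le_sSup ⟨hL.1, hL.2, h⟩)
    · exact le_sup_of_le_right (le_sSup ⟨hL.1, hL.2, h⟩)
  have hA2A0 : ⁅A2, A0⁆ = ⊥ :=
    commutator_sSup_eq_bot fun L hL => (le_or_commutator_eq_bot hL.1 hA0sub).resolve_left hL.2.2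
  have hA1perf : ⁅A1, A1⁆ = A1 := commutator_sSup_components fun L hL => hL.1
  have hA1i : Inv β A1 := map_sSup_eq_of_stable β fun L hL =>
    ⟨(hstab β α (fun x => rfl) hFα L hL.1 hL.2.1).1, (hstab β α (fun x => rfl) hFα L hL.1 hL.2.1).2,
      (Subgroup.map_mono hL.2.2).trans (le_of_eq hA0i)⟩
  set Z : Subgroup ↥H := A' ⊓ centralizer (A' : Set ↥H) with hZdef
  have hA2A1 : A2 ≤ centralizer (A1 : Set ↥H) :=
    le_centralizer_of_commutator_eq_bot (le_bot_iff.1
      ((Subgroup.commutator_mono le_rfl hA1A0).trans hA2A0.le))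
  have hA1A : A1 ≤ A' := hA1A0.trans hA0A
  have hA0Z : A0 ≤ A1 ⊔ Z := by
    intro x hx
    have hn : A2 ≤ normalizer (A1 : Set ↥H) := hA2A1.trans (centralizer_le_normalizer _)
    have hx' := hA12 (hA0A hx)
    rw [← SetLike.mem_coe, Subgroup.coe_mul_of_right_le_normalizer_left _ _ hn] at hx'
    obtain ⟨a, ha, b, hb, rfl⟩ := Set.mem_mul.1 hx'
    have hbA0 : b ∈ A0 := by
      have := A0.mul_mem (A0.inv_mem (hA1A0 ha)) hx
      rwa [inv_mul_cancel_left] at this
    refine Subgroup.mul_mem_sup ha ⟨hA0A hbA0, mem_centralizer_iff.2 fun y hy => ?_⟩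
    have hyb : A' ≤ centralizer ({b} : Set ↥H) := hA12.trans (sup_le
      (fun a' ha' => mem_centralizer_iff.2 fun w hw => by
        rw [Set.mem_singleton_iff.1 hw]; exact (mem_centralizer_iff.1 (hA2A1 hb) a' ha').symm)
      (fun a' ha' => mem_centralizer_iff.2 fun w hw => by
        rw [Set.mem_singleton_iff.1 hw]; exact (commute_of_commutator_eq_bot hA2A0 ha' hbA0).symm))
    exact (mem_centralizer_iff.1 (hyb hy) b rfl).symm
  have hA1mov : moved β A1 = A1 := by
    refine le_antisymm (moved_le hA1i) ?_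
    set M := moved β A1 with hMdef
    have hMA : M ≤ A' := (moved_le hA1i).trans hA1A
    have hle : A1 ≤ M ⊔ Z := by
      refine hA1A0.trans ?_
      conv_lhs => rw [hA0def, ← moved_moved hr hβr hrH hAi]
      refine (closure_le _).2 ?_
      rintro _ ⟨x, hx, rfl⟩
      have hn : Z ≤ normalizer (A1 : Set ↥H) := fun z hz => mem_normalizer_of_conj_mem fun y hy => by
        rw [← mem_centralizer_iff.1 hz.2 y (hA1A hy), mul_inv_cancel_right]; exact hy
      have hx' := hA0Z hx
      rw [← SetLike.mem_coe, Subgroup.coe_mul_of_right_le_normalizer_left _ _ hn] at hx'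
      obtain ⟨a, ha, z, hz, rfl⟩ := Set.mem_mul.1 hx'
      have e : (a * z)⁻¹ * β (a * z) = (a⁻¹ * β a) * (z⁻¹ * β z) := by
        have hcomm : a⁻¹ * β a * z⁻¹ = z⁻¹ * (a⁻¹ * β a) :=
          mem_centralizer_iff.1 (Z.inv_mem hz).2 _ (hMA (mem_moved ha))
        calc (a * z)⁻¹ * β (a * z) = z⁻¹ * (a⁻¹ * β a) * β z := by rw [map_mul]; group
          _ = a⁻¹ * β a * z⁻¹ * β z := by rw [hcomm]
          _ = _ := by group
      show (a * z)⁻¹ * β (a * z) ∈ M ⊔ Z
      rw [e]
      refine Subgroup.mul_mem_sup (mem_moved ha) (Z.mul_mem (Z.inv_mem hz) ?_)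
      exact ⟨hAi.apply_mem hz.1, hAi.centralizer.apply_mem hz.2⟩
    conv_lhs => rw [← hA1perf]
    refine (Subgroup.commutator_mono hle hle).trans ?_
    rw [Subgroup.commutator_le]
    have hn : Z ≤ normalizer (M : Set ↥H) := fun z hz => mem_normalizer_of_conj_mem fun y hy => by
      rw [← mem_centralizer_iff.1 hz.2 y (hMA hy), mul_inv_cancel_right]; exact hy
    intro x hx y hy
    rw [← SetLike.mem_coe, Subgroup.coe_mul_of_right_le_normalizer_left _ _ hn] at hx hy
    obtain ⟨m, hm, z, hz, rfl⟩ := Set.mem_mul.1 hx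
    obtain ⟨m', hm', z', hz', rfl⟩ := Set.mem_mul.1 hy
    have e1 : m' * z = z * m' := mem_centralizer_iff.1 hz.2 _ (hMA hm')
    have e2 : m * z' = z' * m := mem_centralizer_iff.1 hz'.2 _ (hMA hm)
    have e3 : z' * z = z * z' := mem_centralizer_iff.1 hz.2 _ hz'.1
    have e : ⁅m * z, m' * z'⁆ = ⁅m, m'⁆ := commutator_mul_mul e1 e2 e3.symm
    rw [e]
    exact M.mul_mem (M.mul_mem (M.mul_mem hm hm') (M.inv_mem hm)) (M.inv_mem hm')
  -- no component inside `[A', β]`
  have hA1bot : A1 = ⊥ := by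
    have hle : A1.map H.subtype ≤ centralizer (F : Set G) := le_centralizer_of_fixed hHHS hr hαr hrG
      (show Inv α F from hFα) (inv_of_forall (by
        rintro _ ⟨x, hx, rfl⟩; exact ⟨β x, hA1i.apply_mem hx, rfl⟩))
      le_normalizer_of_normal (by rw [← Subgroup.map_commutator, hA1perf])
      (by rw [← map_subtype_moved hH, ← hβdef, hA1mov])
      (fun c hc hfix a ha => hcent c hc hfix a (Subgroup.map_mono hA1A ha))
    have := eq_bot_of_perfect_le_solvable (P := A1.map H.subtype)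
      (by rw [← Subgroup.map_commutator, hA1perf])
      (hle.trans centralizer_generalizedFitting_le_fitting) fitting_isSolvable
    rwa [Subgroup.map_eq_bot_iff_of_injective _ H.subtype_injective] at this
  have hA0c : A0 ≤ centralizer (A' : Set ↥H) := fun x hx => by
    refine mem_centralizer_iff.2 fun y hy => commute_of_commutator_eq_bot hA2A0 ?_ hx
    have := hA12 hy
    rwa [hA1bot, bot_sup_eq] at this
  -- `β` is trivial on `A'`
  have hAfix : A' ≤ fixedSub β := by
    conv_lhs => rw [← hAperf]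
    rw [Subgroup.commutator_le]
    intro a ha b hb
    have hza := hA0c (mem_moved (α := β) ha)
    have hzb := hA0c (mem_moved (α := β) hb)
    show β ⁅a, b⁆ = ⁅a, b⁆
    rw [map_commutatorElement]
    conv_lhs => rw [← mul_inv_cancel_left a (β a), ← mul_inv_cancel_left b (β b)]
    have hzmem := hA0A (mem_moved (α := β) hb)
    exact commutator_mul_mul (mem_centralizer_iff.1 hza b hb) (mem_centralizer_iff.1 hzb a ha)
      ((mem_centralizer_iff.1 hza _ hzmem).symm)
  have htop : moved β (⊤ : Subgroup ↥H) = ⊤ := by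
    apply Subgroup.map_injective H.subtype_injective
    rw [map_subtype_moved hH, ← MonoidHom.range_eq_map, Subgroup.range_subtype, hmov]
  have hcen := moved_le_centralizer hAfix (L := (⊤ : Subgroup ↥H)) le_normalizer_of_normal
  rw [htop] at hcen
  have hbot : ⁅A', A'⁆ = ⊥ := Subgroup.commutator_eq_bot_iff_le_centralizer.2 fun x _ => hcen (Subgroup.mem_top x)
  rwa [hAperf] at hbot

/-- The layer of `H` lies in the layer of `G`. -/
theorem map_layer_le (hHHS : HHS.{u, u, 0}) (hr : r.Prime) (hαr : α ^ r = 1)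
    (hrG : ¬ r ∣ Nat.card G) {H : Subgroup G} (hH : Inv α H)
    (hC : fixedSub α ≤ normalizer (H : Set G)) (hmov : moved α H = H) :
    (Cfsg.layer ↥H).map H.subtype ≤ Cfsg.layer G := by
  rw [Subgroup.map_le_iff_le_comap]
  refine sSup_le fun L hL => Subgroup.map_le_iff_le_comap.1 ?_
  have hLF : L ≤ (Cfsg.generalizedFittingSubgroup G).subgroupOf H := by
    by_contra h
    refine component_ne_bot hL (le_bot_iff.1 ?_)
    rw [← outside_eq_bot hHHS hr hαr hrG hH hC hmov]
    exact le_sSup ⟨hL, h⟩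
  exact perfect_le_layer (by rw [← Subgroup.map_commutator, component_commutator_self hL])
    (fun _ ⟨x, hx, e⟩ => e ▸ Subgroup.mem_subgroupOf.1 (hLF hx))

end CfsgLib.HHSCons
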