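import Cfsg.Agent.Lib.HHSCons.Layer

/-!
The statements about a subgroup `R` of prime order normalising `G` in terms of an automorphism.
-/

set_option autoImplicit false

namespace CfsgLib.HHSCons

open Subgroup CfsgLib.CoprimeCentral CfsgLib.FlavellFpf CfsgLib.FlavellHHS CfsgLib.Components
open scoped commutatorElement

universe u

variable {X : Type u} [Group X] [Finite X]

/-- The data carried by a generator of `R`. -/
theorem exists_aut (G R : Subgroup X) (r : ℕ) [Fact r.Prime] (hR : Nat.card ↥R = r)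
    (hcop : (Nat.card ↥G).Coprime r) (hnorm : R ≤ Subgroup.normalizer (G : Set X)) :
    ∃ (g : X) (α : MulAut ↥G), R = Subgroup.zpowers g ∧ (∀ x : ↥G, (α x : X) = g * x * g⁻¹) ∧
      α ^ r = 1 ∧ ¬ r ∣ Nat.card ↥G ∧
      fixedSub α = (G ⊓ Subgroup.centralizer (R : Set X)).subgroupOf G := by
  have hr : r.Prime := Fact.out
  haveI : IsCyclic ↥R := isCyclic_of_prime_card hR
  obtain ⟨⟨g, hg⟩, hgen⟩ := IsCyclic.exists_generator (α := ↥R)
  have hRg : R = Subgroup.zpowers g := by
    refine le_antisymm (fun x hx => ?_) (Subgroup.zpowers_le.2 hg)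
    obtain ⟨k, hk⟩ := Subgroup.mem_zpowers_iff.1 (hgen ⟨x, hx⟩)
    exact ⟨k, by simpa using congrArg Subtype.val hk⟩
  refine ⟨g, Subgroup.normalizerMonoidHom G ⟨g, hnorm hg⟩, hRg, fun x => rfl, ?_,
    (hr.coprime_iff_not_dvd).1 hcop.symm, ?_⟩
  · rw [← map_pow]
    have hgr : g ^ r = 1 := by
      have := pow_card_eq_one' (x := (⟨g, hg⟩ : ↥R))
      rw [hR] at this
      simpa using congrArg Subtype.val this
    rw [show (⟨g, hnorm hg⟩ : ↥(Subgroup.normalizer (G : Set X))) ^ r = 1 from Subtype.ext hgr, map_one]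
  · ext x
    rw [Subgroup.mem_subgroupOf, mem_fixedSub, Subgroup.mem_inf, mem_centralizer_iff]
    constructor
    · intro h
      refine ⟨x.2, fun y hy => ?_⟩
      have hgx : g * (x : X) = x * g := mul_inv_eq_iff_eq_mul.1 (congrArg Subtype.val h)
      rw [hRg] at hy
      obtain ⟨k, rfl⟩ := hy
      exact ((show Commute g (x : X) from hgx).zpow_left k).eq
    · rintro ⟨-, h⟩
      exact Subtype.ext (mul_inv_eq_iff_eq_mul.2 (h g hg))

/-- `H = [H, R]` says that `H` is moved by a generator. -/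
theorem moved_eq_of_commutator {G R H : Subgroup X} {g : X} {α : MulAut ↥G}
    (hRg : R = Subgroup.zpowers g) (hα : ∀ x : ↥G, (α x : X) = g * x * g⁻¹) (hHG : H ≤ G)
    (hH : Inv α (H.subgroupOf G)) (hHR : ⁅H, R⁆ = H) : moved α (H.subgroupOf G) = H.subgroupOf G := by
  refine le_antisymm (moved_le hH) fun x hx => ?_
  have hpow : ∀ (k : ℕ) (y : ↥G), ((α ^ k) y : X) = g ^ k * y * (g ^ k)⁻¹ := by
    intro k
    induction k with
    | zero => intro y; simp
    | succ k ih => intro y; rw [pow_succ' α, MulAut.mul_apply, hα, ih, pow_succ' g]; group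
  have hmem : ∀ (k : ℕ) (y : ↥G), y ∈ H.subgroupOf G → y⁻¹ * (α ^ k) y ∈ moved α (H.subgroupOf G) := by
    intro k
    induction k with
    | zero => intro y _; simp
    | succ k ih =>
      intro y hy
      have hyk : (α ^ k) y ∈ H.subgroupOf G := by
        have : ∀ m : ℕ, (α ^ m) y ∈ H.subgroupOf G := by
          intro m
          induction m with
          | zero => simpa using hy
          | succ m ihm => rw [pow_succ', MulAut.mul_apply]; exact hH.apply_mem ihm
        exact this k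
      have e : y⁻¹ * (α ^ (k + 1)) y = (y⁻¹ * (α ^ k) y) * (((α ^ k) y)⁻¹ * α ((α ^ k) y)) := by
        rw [pow_succ', MulAut.mul_apply]; group
      rw [e]
      exact (moved α _).mul_mem (ih y hy) (mem_moved hyk)
  have hle : ⁅H, R⁆ ≤ (moved α (H.subgroupOf G)).map G.subtype := by
    rw [Subgroup.commutator_le]
    intro h hh t ht
    rw [hRg] at ht
    obtain ⟨k, rfl⟩ := (mem_powers_iff_mem_zpowers.2 ht)
    refine ⟨_, hmem k ⟨h⁻¹, hHG (H.inv_mem hh)⟩ (H.inv_mem hh), ?_⟩
    show (h⁻¹)⁻¹ * (((α ^ k) ⟨h⁻¹, hHG (H.inv_mem hh)⟩ : ↥G) : X) = ⁅h, g ^ k⁆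
    rw [hpow, commutatorElement_def, inv_inv]
    group
  rw [hHR] at hle
  obtain ⟨y, hy, hyx⟩ := hle (Subgroup.mem_subgroupOf.1 hx)
  exact (Subtype.ext hyx : y = x) ▸ hy

/-- The layer form of the statement. -/
theorem layer_le_layer_of_commutator (hHHS : HHS.{u, u, 0}) (G R : Subgroup X) (r : ℕ) [Fact r.Prime]
    (hR : Nat.card ↥R = r) (hcop : (Nat.card ↥G).Coprime r)
    (hnorm : R ≤ Subgroup.normalizer (G : Set X)) (H : Subgroup X) (hHG : H ≤ G)
    (hHinv : R ⊔ (G ⊓ Subgroup.centralizer (R : Set X)) ≤ Subgroup.normalizer (H : Set X))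
    (hHR : ⁅H, R⁆ = H) : (Cfsg.layer ↥H).map H.subtype ≤ (Cfsg.layer ↥G).map G.subtype := by
  obtain ⟨g, α, hRg, hα, hαr, hrG, hfix⟩ := exists_aut G R r hR hcop hnorm
  have hgN : g ∈ Subgroup.normalizer (H : Set X) :=
    hHinv (Subgroup.mem_sup_left (hRg ▸ Subgroup.mem_zpowers g))
  have hHi : Inv α (H.subgroupOf G) := inv_of_forall fun x hx => Subgroup.mem_subgroupOf.2
    (hα x ▸ (mem_normalizer_iff.1 hgN x).1 (Subgroup.mem_subgroupOf.1 hx))
  have hC : fixedSub α ≤ normalizer ((H.subgroupOf G : Subgroup ↥G) : Set ↥G) := fun c hc =>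
    mem_normalizer_of_conj_mem fun x hx => Subgroup.mem_subgroupOf.2
      ((mem_normalizer_iff.1 (hHinv (Subgroup.mem_sup_right
        (Subgroup.mem_subgroupOf.1 (hfix ▸ hc)))) x).1 (Subgroup.mem_subgroupOf.1 hx))
  have h := map_layer_le hHHS (Fact.out : r.Prime) hαr hrG hHi hC
    (moved_eq_of_commutator hRg hα hHG hHi hHR)
  rw [← map_layer_equiv (Subgroup.subgroupOfEquivOfLe hHG), Subgroup.map_map]
  refine le_trans (le_of_eq ?_) (Subgroup.map_mono h)
  rw [Subgroup.map_map]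
  rfl

end CfsgLib.HHSCons
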