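import Cfsg.Agent.Lib.HHSCons.Commuting
import Cfsg.Agent.Lib.HHSCons.Translate

/-!
The trichotomy for a quasisimple subgroup in terms of a subgroup `R` of prime order.
-/

set_option autoImplicit false

namespace CfsgLib.HHSCons

open Subgroup CfsgLib.CoprimeCentral CfsgLib.FlavellFpf CfsgLib.FlavellHHS CfsgLib.Components
open scoped commutatorElement

universe u

variable {X : Type u} [Group X] [Finite X]

/-- The trichotomy form of the statement. -/
theorem trichotomy_of_conjugates (hHHS : HHS.{u, u, 0}) (G R : Subgroup X) (r : ℕ) [Fact r.Prime]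
    (hR : Nat.card ↥R = r) (hcop : (Nat.card ↥G).Coprime r)
    (hnorm : R ≤ Subgroup.normalizer (G : Set X)) (K : Subgroup X) (hKG : K ≤ G)
    (hKq : Cfsg.IsQuasisimple ↥K)
    (hcomm : ∀ g ∈ R ⊔ (G ⊓ Subgroup.centralizer (R : Set X)),
      K.map (MulAut.conj g).toMonoidHom ≠ K → ⁅K, K.map (MulAut.conj g).toMonoidHom⁆ = ⊥) :
    (K ≤ G ⊓ Subgroup.centralizer (R : Set X) ∧
        Cfsg.IsComponent (K.subgroupOf (G ⊓ Subgroup.centralizer (R : Set X)))) ∨
      Cfsg.IsComponent (K.subgroupOf G) ∨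
      ∃ L : Subgroup X, L ≤ G ∧ Cfsg.IsComponent (L.subgroupOf G) ∧
        (∀ a ∈ R, L.map (MulAut.conj a).toMonoidHom = L) ∧ K ≤ L := by
  obtain ⟨g, α, hRg, hα, hαr, hrG, hfix⟩ := exists_aut G R r hR hcop hnorm
  set Y : Subgroup X := R ⊔ (G ⊓ Subgroup.centralizer (R : Set X)) with hY
  let Γ : Subgroup (MulAut ↥G) := Subgroup.closure ({α} ∪ MulAut.conj '' (fixedSub α : Set ↥G))
  have hΓ : ∀ f ∈ Γ, ∃ a ∈ Y, ∀ x : ↥G, ((f x : ↥G) : X) = a * x * a⁻¹ := by
    intro f hf
    induction hf using Subgroup.closure_induction with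
    | mem f hf =>
      rcases hf with rfl | ⟨c, hc, rfl⟩
      · exact ⟨g, Subgroup.mem_sup_left (hRg ▸ Subgroup.mem_zpowers g), hα⟩
      · have hc' : c ∈ fixedSub α := hc
        rw [hfix] at hc'
        exact ⟨c, Subgroup.mem_sup_right (Subgroup.mem_subgroupOf.1 hc'), fun x => rfl⟩
    | one => exact ⟨1, Y.one_mem, fun x => by simp⟩
    | mul f f' _ _ hf hf' =>
      obtain ⟨a, ha, hfa⟩ := hf
      obtain ⟨b, hb, hfb⟩ := hf'
      exact ⟨a * b, Y.mul_mem ha hb, fun x => by rw [MulAut.mul_apply, hfa, hfb]; group⟩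
    | inv f _ hf =>
      obtain ⟨a, ha, hfa⟩ := hf
      refine ⟨a⁻¹, Y.inv_mem ha, fun x => ?_⟩
      have h := hfa (f⁻¹ x)
      rw [show f (f⁻¹ x) = x from f.apply_symm_apply x] at h
      rw [h]; group
  have hΓα : ∀ f ∈ Γ, f * α = α * f := by
    have hle : Γ ≤ Subgroup.centralizer ({α} : Set (MulAut ↥G)) := by
      refine (Subgroup.closure_le _).2 ?_
      rintro f (rfl | ⟨c, hc, rfl⟩) <;> rw [SetLike.mem_coe, mem_centralizer_iff] <;> intro y hy <;>
        rw [Set.mem_singleton_iff.1 hy]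
      refine MulEquiv.ext fun x => ?_
      have hc' : α c = c := hc
      rw [MulAut.mul_apply, MulAut.mul_apply, MulAut.conj_apply, MulAut.conj_apply, map_mul, map_mul,
        map_inv, hc']
    exact fun f hf => (mem_centralizer_iff.1 (hle hf) α rfl).symm
  set K' : Subgroup ↥G := K.subgroupOf G with hK'
  have hK'map : K'.map G.subtype = K := Subgroup.map_subgroupOf_eq_of_le hKG
  have hcomm' : ∀ f ∈ Γ, K'.map f.toMonoidHom ≠ K' → ⁅K', K'.map f.toMonoidHom⁆ = ⊥ := by
    intro f hf hne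
    obtain ⟨a, ha, hfa⟩ := hΓ f hf
    have he : (K'.map f.toMonoidHom).map G.subtype = K.map (MulAut.conj a).toMonoidHom := by
      ext y
      constructor
      · rintro ⟨_, ⟨x, hx, rfl⟩, rfl⟩
        exact ⟨x, Subgroup.mem_subgroupOf.1 hx, (hfa x).symm⟩
      · rintro ⟨x, hx, rfl⟩
        exact ⟨f ⟨x, hKG hx⟩, ⟨⟨x, hKG hx⟩, Subgroup.mem_subgroupOf.2 hx, rfl⟩, hfa ⟨x, hKG hx⟩⟩
    have h := hcomm a ha fun h => hne (Subgroup.map_injective G.subtype_injective (by rw [he, h, hK'map]))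
    apply Subgroup.map_injective G.subtype_injective
    rw [Subgroup.map_commutator, he, hK'map, h, Subgroup.map_bot]
  rcases component_trichotomy hHHS (Fact.out : r.Prime) hαr hrG Γ
    (Subgroup.subset_closure (Or.inl rfl))
    (fun c hc => Subgroup.subset_closure (Or.inr ⟨c, hc, rfl⟩)) hΓα K'
    (isQuasisimple_of_mulEquiv hKq (Subgroup.subgroupOfEquivOfLe hKG).symm) hcomm' with
    ⟨h1, h2⟩ | h | ⟨L, hL, hLα, hKL⟩
  · left
    rw [hfix] at h1 h2
    have hle : K ≤ G ⊓ Subgroup.centralizer (R : Set X) := fun x hx =>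
      Subgroup.mem_subgroupOf.1 (h1 (x := ⟨x, hKG hx⟩) (Subgroup.mem_subgroupOf.2 hx))
    refine ⟨hle, ?_⟩
    have h3 := isComponent_map_equiv (Subgroup.subgroupOfEquivOfLe
      (inf_le_left : G ⊓ Subgroup.centralizer (R : Set X) ≤ G)) h2
    convert h3 using 1
    ext y
    constructor
    · intro hy
      exact ⟨⟨⟨y, y.2.1⟩, Subgroup.mem_subgroupOf.2 y.2⟩,
        Subgroup.mem_subgroupOf.2 (Subgroup.mem_subgroupOf.2 (Subgroup.mem_subgroupOf.1 hy :)), rfl⟩
    · rintro ⟨z, hz, rfl⟩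
      exact Subgroup.mem_subgroupOf.2 (Subgroup.mem_subgroupOf.1 (Subgroup.mem_subgroupOf.1 hz) :)
  · exact Or.inr (Or.inl h)
  · refine Or.inr (Or.inr ⟨L.map G.subtype, Subgroup.map_subtype_le L, ?_, ?_, ?_⟩)
    · rwa [Subgroup.subgroupOf, Subgroup.comap_map_eq_self_of_injective G.subtype_injective]
    · have hg : g ∈ normalizer ((L.map G.subtype : Subgroup X) : Set X) := by
        refine mem_normalizer_of_conj_mem ?_
        rintro _ ⟨x, hx, rfl⟩
        exact ⟨α x, (le_of_eq hLα) ⟨x, hx, rfl⟩, hα x⟩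
      intro a ha
      have han : a ∈ normalizer ((L.map G.subtype : Subgroup X) : Set X) :=
        (Subgroup.zpowers_le.2 hg) (hRg ▸ ha)
      refine Subgroup.eq_of_le_of_card_ge ?_ (Nat.card_congr ((L.map G.subtype).equivMapOfInjective _
        (MulAut.conj a).injective).toEquiv).le
      rintro _ ⟨x, hx, rfl⟩
      exact (mem_normalizer_iff.1 han x).1 hx
    · rw [← hK'map]; exact Subgroup.map_mono hKL

end CfsgLib.HHSCons
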