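import Cfsg.Agent.Lib.FlavellHHS.Interface
import Cfsg.Agent.Lib.FlavellFpf.Fixed
import Cfsg.Agent.Lib.Components.Local
import Cfsg.Agent.Lib.LocalEven.InvolvesFour
import Cfsg.Agent.Lib.PGroup.Frattini

/-!
Consequences of the fixed point free lemma of Flavell, Hall-Higman and Shult for perfect subgroups
of `[H, α]` acting on invariant `q`-subgroups.
-/

set_option autoImplicit false

namespace CfsgLib.HHSCons

open Subgroup CfsgLib.CoprimeCentral CfsgLib.FlavellFpf CfsgLib.FlavellHHS
open scoped commutatorElement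

universe u

/-- A perfect subgroup of a solvable subgroup is trivial. -/
theorem eq_bot_of_perfect_le_solvable {G : Type*} [Group G] [Finite G] {P S : Subgroup G}
    (hP : ⁅P, P⁆ = P) (hle : P ≤ S) (hS : Group.IsSolvable S) : P = ⊥ := by
  haveI := hS
  haveI : Group.IsSolvable P := solvable_of_solvable_injective (Subgroup.inclusion_injective hle)
  by_contra hne
  haveI := (Subgroup.nontrivial_iff_ne_bot P).2 hne
  refine (Group.IsSolvable.commutator_lt_top_of_nontrivial P).ne (Subgroup.map_injective P.subtype_injective ?_)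
  rw [_root_.commutator_def, Subgroup.map_commutator, ← MonoidHom.range_eq_map, Subgroup.range_subtype, hP]

/-- Module form: a perfect subgroup of `[H, α]` acts trivially on an elementary abelian group on which
`α` acts without fixed points. -/
theorem eq_one_of_fpf (hHHS : HHS.{u, u, 0}) {H V : Type u} [Group H] [Finite H] [Group V] [Finite V]
    {q r : ℕ} [hq : Fact q.Prime] (hab : ∀ x y : V, x * y = y * x) (hexp : ∀ x : V, x ^ q = 1)
    (hr : r.Prime) (α : MulAut H) (hαr : α ^ r = 1) (hrH : ¬ r ∣ Nat.card H) (β : MulAut V)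
    (hβr : β ^ r = 1) (φ : H →* MulAut V) (hc : ∀ h v, β (φ h v) = φ (α h) (β v))
    (hfix : ∀ v, β v = v → v = 1) {P : Subgroup H} (hperf : ⁅P, P⁆ = P)
    (hle : P ≤ moved α (⊤ : Subgroup H)) {x : H} (hx : x ∈ P) : φ x = 1 := by
  letI : CommGroup V := { ‹Group V› with mul_comm := hab }
  haveI : Module (ZMod q) (Additive V) :=
    AddCommGroup.zmodModule (fun v => congrArg Additive.ofMul (hexp (Additive.toMul v)))
  haveI : Finite (Additive V) := ‹Finite V›
  haveI : Module.Finite (ZMod q) (Additive V) := Module.Finite.of_finite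
  let toEnd : MulAut V →* Module.End (ZMod q) (Additive V) :=
    { toFun := fun e => (MonoidHom.toAdditive e.toMonoidHom).toZModLinearMap q
      map_one' := LinearMap.ext fun x => congrArg Additive.ofMul (by rfl)
      map_mul' := fun e f => LinearMap.ext fun x => congrArg Additive.ofMul (by rfl) }
  have hinjE : Function.Injective toEnd := fun e f h => MulEquiv.ext fun v =>
    congrArg Additive.toMul (LinearMap.congr_fun h (Additive.ofMul v))
  set N := φ.ker with hNdef
  have hN : Inv α N := inv_of_forall fun y hy => by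
    rw [MonoidHom.mem_ker] at hy ⊢
    refine MulEquiv.ext fun v => ?_
    obtain ⟨w, rfl⟩ := β.surjective v
    rw [← hc, hy, MulAut.one_apply, MulAut.one_apply]
  have h := hHHS (H ⧸ N) q r (ZMod q) (Additive V) (toEnd.comp (QuotientGroup.kerLift φ))
    (quotAut hN) (toEnd β) hr (quotAut_pow_eq_one hN hαr) (fun h => hrH (h.trans N.card_quotient_dvd_card))
    (by rw [← map_pow, hβr, map_one])
    (fun y => QuotientGroup.induction_on y fun g => by
      rw [quotAut_mk, MonoidHom.comp_apply, MonoidHom.comp_apply, ← map_mul, ← map_mul]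
      refine congrArg toEnd (MulEquiv.ext fun v => ?_)
      exact (hc g v).symm)
    (fun v hv => congrArg Additive.ofMul (hfix (Additive.toMul v) (congrArg Additive.toMul hv)))
    (hinjE.comp (QuotientGroup.kerLift_injective φ))
  have hP : ⁅P.map (QuotientGroup.mk' N), P.map (QuotientGroup.mk' N)⁆ = P.map (QuotientGroup.mk' N) := by
    rw [← Subgroup.map_commutator, hperf]
  have hPle : P.map (QuotientGroup.mk' N) ≤ moved (quotAut hN) (⊤ : Subgroup (H ⧸ N)) := by
    rw [← Subgroup.map_top_of_surjective _ (QuotientGroup.mk'_surjective N), moved_map_mk]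
    exact Subgroup.map_mono hle
  have hbot := eq_bot_of_perfect_le_solvable hP hPle h.isSolvable
  have : QuotientGroup.mk' N x = 1 := (Subgroup.mem_bot).1 (hbot ▸ Subgroup.mem_map_of_mem _ hx)
  exact MonoidHom.mem_ker.1 ((QuotientGroup.eq_one_iff x).1 this)

variable {G : Type u} [Group G] [Finite G] {α : MulAut G} {r : ℕ}

/-- A perfect subgroup `P` of `[H, α]`, normal and invariant in `H`, centralises an invariant
`q`-subgroup normalised by `H` as soon as it centralises its fixed points. -/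
theorem centralizes_of_fixed (hHHS : HHS.{u, u, 0}) (hr : r.Prime) (hαr : α ^ r = 1)
    (hrG : ¬ r ∣ Nat.card G) {q : ℕ} [hq : Fact q.Prime] {V H P : Subgroup G} (hV : IsPGroup q V)
    (hVi : Inv α V) (hHi : Inv α H) (hHV : H ≤ normalizer (V : Set G)) (hperf : ⁅P, P⁆ = P)
    (hPi : Inv α P) (hHP : H ≤ normalizer (P : Set G)) (hPH : P ≤ moved α H)
    (hcent : ∀ c ∈ V, α c = c → ∀ x ∈ P, x * c = c * x) :
    P ≤ centralizer (V : Set G) := by
  have hPH' : P ≤ H := hPH.trans (moved_le hHi)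
  have hPV : P ≤ normalizer (V : Set G) := hPH'.trans hHV
  set Φ : Subgroup G := (frattini ↥V).map V.subtype with hΦdef
  set U0 : Subgroup G := V ⊓ centralizer (P : Set G) with hU0def
  set U : Subgroup G := U0 ⊔ Φ with hUdef
  have hU0i : Inv α U0 := hVi.inf hPi.centralizer
  have hΦi : Inv α Φ := hVi.of_characteristic (frattini ↥V)
  have hUi : Inv α U := hU0i.sup hΦi
  have hHΦ : ∀ h ∈ H, ∀ y ∈ Φ, h * y * h⁻¹ ∈ Φ := by
    rintro h hh _ ⟨y, hy, rfl⟩
    let e : MulAut ↥V := Subgroup.normalizerMonoidHom V ⟨h, hHV hh⟩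
    have he : (frattini ↥V).map e.toMonoidHom = frattini ↥V :=
      Subgroup.characteristic_iff_map_eq.1 inferInstance e
    exact ⟨e y, he ▸ Subgroup.mem_map_of_mem _ hy, rfl⟩
  have hHU : ∀ h ∈ H, ∀ y ∈ U, h * y * h⁻¹ ∈ U := by
    intro h hh y hy
    refine (show U.map (MulAut.conj h).toMonoidHom ≤ U from ?_) ⟨y, hy, rfl⟩
    rw [hUdef, Subgroup.map_sup]
    refine sup_le_sup ?_ ?_
    · rintro _ ⟨z, ⟨hzV, hzP⟩, rfl⟩
      refine ⟨(mem_normalizer_iff.1 (hHV hh) z).1 hzV, mem_centralizer_iff.2 fun x hx => ?_⟩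
      have hx' : h⁻¹ * x * h ∈ P := by
        have := (mem_normalizer_iff.1 (hHP (inv_mem hh)) x).1 hx
        rwa [inv_inv] at this
      have h1 := mem_centralizer_iff.1 hzP _ hx'
      show x * (h * z * h⁻¹) = h * z * h⁻¹ * x
      calc x * (h * z * h⁻¹) = h * ((h⁻¹ * x * h) * z) * h⁻¹ := by group
        _ = h * (z * (h⁻¹ * x * h)) * h⁻¹ := by rw [h1]
        _ = h * z * h⁻¹ * x := by group
    · rintro _ ⟨z, hz, rfl⟩; exact hHΦ h hh z hz
  -- the module `V / U`
  set U' : Subgroup ↥V := U.subgroupOf V with hU'def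
  have hΦU' : frattini ↥V ≤ U' := fun y hy => Subgroup.mem_subgroupOf.2
    (Subgroup.mem_sup_right ⟨y, hy, rfl⟩)
  haveI hU'n : U'.Normal := Subgroup.Normal.of_commutator_le ↥V
    ((CfsgLib.PGroup.commutator_le_frattini hV).trans hΦU')
  have hres : ∀ h : ↥H, U'.map (Subgroup.normalizerMonoidHom V ⟨h, hHV h.2⟩).toMonoidHom = U' := by
    intro h
    refine Subgroup.eq_of_le_of_card_ge ?_ (Nat.card_congr (U'.equivMapOfInjective _
      (Subgroup.normalizerMonoidHom V ⟨h, hHV h.2⟩).injective).toEquiv).le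
    rintro _ ⟨y, hy, rfl⟩
    exact Subgroup.mem_subgroupOf.2 (hHU h h.2 y (Subgroup.mem_subgroupOf.1 hy))
  let φ : ↥H →* MulAut (↥V ⧸ U') :=
    { toFun := fun h => QuotientGroup.congr U' U' (Subgroup.normalizerMonoidHom V ⟨h, hHV h.2⟩) (hres h)
      map_one' := MulEquiv.ext fun y => QuotientGroup.induction_on y fun v => by
        refine congrArg (QuotientGroup.mk : ↥V → ↥V ⧸ U') (Subtype.ext ?_)
        simp
      map_mul' := fun a b => MulEquiv.ext fun y => QuotientGroup.induction_on y fun v => by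
        refine congrArg (QuotientGroup.mk : ↥V → ↥V ⧸ U') (Subtype.ext ?_)
        simp [mul_assoc] }
  have hU'i : Inv (resAut hVi) U' := inv_of_forall fun y hy =>
    Subgroup.mem_subgroupOf.2 (hUi.apply_mem (Subgroup.mem_subgroupOf.1 hy))
  have hrH : ¬ r ∣ Nat.card ↥H := fun h => hrG (h.trans H.card_subgroup_dvd_card)
  have hrV : ¬ r ∣ Nat.card ↥V := fun h => hrG (h.trans V.card_subgroup_dvd_card)
  have hmoved : P.subgroupOf H ≤ moved (resAut hHi) (⊤ : Subgroup ↥H) := by
    intro x hx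
    have hmap : (moved (resAut hHi) (⊤ : Subgroup ↥H)).map H.subtype = moved α H := by
      rw [moved, MonoidHom.map_closure, moved]
      congr 1
      ext y
      constructor
      · rintro ⟨_, ⟨z, -, rfl⟩, rfl⟩; exact ⟨z, z.2, rfl⟩
      · rintro ⟨z, hz, rfl⟩; exact ⟨_, ⟨⟨z, hz⟩, trivial, rfl⟩, rfl⟩
    obtain ⟨z, hz, he⟩ := hmap.symm ▸ hPH (Subgroup.mem_subgroupOf.1 hx)
    exact (Subtype.ext he : z = x) ▸ hz
  have hperf' : ⁅P.subgroupOf H, P.subgroupOf H⁆ = P.subgroupOf H := by
    apply Subgroup.map_injective H.subtype_injective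
    rw [Subgroup.map_commutator, Subgroup.map_subgroupOf_eq_of_le hPH', hperf]
  have hkey : ∀ x ∈ P, ∀ v ∈ V, v⁻¹ * (x * v * x⁻¹) ∈ U := by
    intro x hx v hv
    have h1 := eq_one_of_fpf hHHS (V := ↥V ⧸ U') (q := q) (fun a b => ?_) (fun a => ?_) hr
      (resAut hHi) (resAut_pow_eq_one hHi hαr) hrH (quotAut hU'i)
      (quotAut_pow_eq_one hU'i (resAut_pow_eq_one hVi hαr)) φ (fun h a => ?_) (fun a ha => ?_)
      hperf' hmoved (x := ⟨x, hPH' hx⟩) (Subgroup.mem_subgroupOf.2 hx)
    · have h2 := MulEquiv.congr_fun h1 ((⟨v, hv⟩ : ↥V) : ↥V ⧸ U')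
      rw [MulAut.one_apply] at h2
      have h3 := Subgroup.mem_subgroupOf.1 (QuotientGroup.eq.1 h2.symm)
      simpa using h3
    · induction a using QuotientGroup.induction_on with
      | H a =>
        induction b using QuotientGroup.induction_on with
        | H b =>
          rw [← QuotientGroup.mk_mul, ← QuotientGroup.mk_mul, QuotientGroup.eq]
          have := hΦU' (CfsgLib.PGroup.commutator_le_frattini hV
            (Subgroup.commutator_mem_commutator (Subgroup.mem_top b⁻¹) (Subgroup.mem_top a⁻¹)))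
          simpa [commutatorElement_def, mul_assoc] using this
    · induction a using QuotientGroup.induction_on with
      | H a =>
        rw [← QuotientGroup.mk_pow, QuotientGroup.eq_one_iff]
        exact hΦU' (CfsgLib.PGroup.pow_mem_frattini hV a)
    · induction a using QuotientGroup.induction_on with
      | H a =>
        refine congrArg (QuotientGroup.mk : ↥V → ↥V ⧸ U') (Subtype.ext ?_)
        show α ((h : G) * (a : G) * (h : G)⁻¹) = α (h : G) * α (a : G) * (α (h : G))⁻¹
        rw [map_mul, map_mul, map_inv]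
    · obtain ⟨w, hw, rfl⟩ := exists_fixed_lift hr (resAut_pow_eq_one hVi hαr) hrV hU'i ha
      refine (QuotientGroup.eq_one_iff w).2 (Subgroup.mem_subgroupOf.2 (Subgroup.mem_sup_left
        ⟨w.2, mem_centralizer_iff.2 fun y hy => hcent w w.2 ?_ y hy⟩))
      exact congrArg Subtype.val hw
  -- hence `P` acts on `V / Φ(V)` through an abelian group
  have hres' : ∀ x : ↥P, (frattini ↥V).map (Subgroup.normalizerMonoidHom V ⟨x, hPV x.2⟩).toMonoidHom
      = frattini ↥V := fun x => Subgroup.characteristic_iff_map_eq.1 inferInstance _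
  haveI : (frattini ↥V).Normal := inferInstance
  let ψ : ↥P →* MulAut (↥V ⧸ frattini ↥V) :=
    { toFun := fun x => QuotientGroup.congr (frattini ↥V) (frattini ↥V)
        (Subgroup.normalizerMonoidHom V ⟨x, hPV x.2⟩) (hres' x)
      map_one' := MulEquiv.ext fun y => QuotientGroup.induction_on y fun v => by
        refine congrArg (QuotientGroup.mk : ↥V → ↥V ⧸ frattini ↥V) (Subtype.ext ?_)
        simp
      map_mul' := fun a b => MulEquiv.ext fun y => QuotientGroup.induction_on y fun v => by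
        refine congrArg (QuotientGroup.mk : ↥V → ↥V ⧸ frattini ↥V) (Subtype.ext ?_)
        simp [mul_assoc] }
  have hcommF : ∀ a b : ↥V ⧸ frattini ↥V, a * b = b * a := by
    intro a b
    induction a using QuotientGroup.induction_on with
    | H a =>
      induction b using QuotientGroup.induction_on with
      | H b =>
        rw [← QuotientGroup.mk_mul, ← QuotientGroup.mk_mul, QuotientGroup.eq]
        have := CfsgLib.PGroup.commutator_le_frattini hV
          (Subgroup.commutator_mem_commutator (Subgroup.mem_top b⁻¹) (Subgroup.mem_top a⁻¹))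
        simpa [commutatorElement_def, mul_assoc] using this
  have hfixU : ∀ x : ↥P, ∀ w : ↥V, (w : G) ∈ U →
      ψ x (w : ↥V ⧸ frattini ↥V) = (w : ↥V ⧸ frattini ↥V) := by
    intro x w hw
    have hle : U ≤ (((MulAut.conj (x : G)).toMonoidHom).eqLocus (MonoidHom.id G) ⊓ V) ⊔ Φ := by
      refine sup_le_sup ?_ le_rfl
      rintro z ⟨hzV, hzP⟩
      refine ⟨?_, hzV⟩
      show (x : G) * z * (x : G)⁻¹ = z
      rw [mem_centralizer_iff.1 hzP x x.2, mul_inv_cancel_right]
    have hΦn : ((MulAut.conj (x : G)).toMonoidHom).eqLocus (MonoidHom.id G) ⊓ V ≤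
        normalizer (Φ : Set G) := fun z hz => by
      refine FlavellFpf.mem_normalizer_of_conj_mem ?_
      rintro _ ⟨y, hy, rfl⟩
      exact ⟨⟨z, hz.2⟩ * y * ⟨z, hz.2⟩⁻¹, (inferInstance : (frattini ↥V).Normal).conj_mem y hy _, rfl⟩
    have hw0 := hle hw
    rw [← SetLike.mem_coe, Subgroup.coe_mul_of_left_le_normalizer_right _ _ hΦn] at hw0
    obtain ⟨z, hz, f, ⟨f', hf', hf⟩, hzf⟩ := Set.mem_mul.1 hw0
    have hw' : (w : ↥V ⧸ frattini ↥V) = ((⟨z, hz.2⟩ : ↥V) : ↥V ⧸ frattini ↥V) := by
      refine (QuotientGroup.eq.2 ?_).symm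
      have : (⟨z, hz.2⟩ : ↥V)⁻¹ * w = f' := Subtype.ext (by
        show z⁻¹ * (w : G) = f'
        rw [← hzf, ← hf]; simp)
      rw [this]; exact hf'
    rw [hw']
    refine congrArg (QuotientGroup.mk : ↥V → ↥V ⧸ frattini ↥V) (Subtype.ext ?_)
    exact hz.1
  have hψ : ∀ x y : ↥P, ψ x * ψ y = ψ y * ψ x := by
    intro x y
    refine MulEquiv.ext fun a => QuotientGroup.induction_on a fun v => ?_
    have key : ∀ z : ↥P, ∃ w : ↥V, (w : G) ∈ U ∧
        ψ z (v : ↥V ⧸ frattini ↥V) = (v : ↥V ⧸ frattini ↥V) * (w : ↥V ⧸ frattini ↥V) := fun z =>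
      ⟨⟨(v : G)⁻¹ * ((z : G) * v * (z : G)⁻¹),
          V.mul_mem (V.inv_mem v.2) ((mem_normalizer_iff.1 (hPV z.2) v).1 v.2)⟩, hkey z z.2 v v.2, by
        rw [← QuotientGroup.mk_mul]
        refine congrArg (QuotientGroup.mk : ↥V → ↥V ⧸ frattini ↥V) (Subtype.ext ?_)
        simp [mul_assoc]⟩
    obtain ⟨wx, hwx, ex⟩ := key x
    obtain ⟨wy, hwy, ey⟩ := key y
    rw [MulAut.mul_apply, MulAut.mul_apply, ey, ex, map_mul, map_mul, hfixU x wy hwy, hfixU y wx hwx,
      ex, ey, mul_assoc, mul_assoc, hcommF (wx : ↥V ⧸ frattini ↥V)]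
  have hψ1 : ∀ x : ↥P, ψ x = 1 := by
    have hker : commutator ↥P ≤ ψ.ker := by
      rw [_root_.commutator_def, Subgroup.commutator_le]
      intro a _ b _
      rw [MonoidHom.mem_ker, map_commutatorElement, commutatorElement_eq_one_iff_mul_comm]
      exact hψ a b
    have htop : commutator ↥P = ⊤ := Subgroup.map_injective P.subtype_injective (by
      rw [_root_.commutator_def, Subgroup.map_commutator, ← MonoidHom.range_eq_map, Subgroup.range_subtype, hperf])
    exact fun x => MonoidHom.mem_ker.1 (hker (htop ▸ Subgroup.mem_top x))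
  -- Burnside
  have hprime : ∀ n : ℕ, ∀ x ∈ P, orderOf x = n → n.Coprime q → x ∈ centralizer (V : Set G) := by
    intro n
    induction n using Nat.recOnPosPrimePosCoprime with
    | zero => intro x _ hx; exact absurd hx (orderOf_pos x).ne'
    | one => intro x _ hx _; rw [orderOf_eq_one_iff.1 hx]; exact one_mem _
    | prime_pow p k hp hk =>
      intro x hx hord hcop
      haveI : Fact p.Prime := ⟨hp⟩
      have hpq : q ≠ p := fun e => hp.ne_one (Nat.dvd_one.1 (hcop ▸ Nat.dvd_gcd (dvd_pow_self p hk.ne') (e ▸ dvd_rfl)))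
      refine CfsgLib.LocalEven.Involved.le_centralizer_of_le_centralizer_frattini hpq hV
        (P := Subgroup.zpowers x) (IsPGroup.of_card (n := k) (by rw [Nat.card_zpowers, hord]))
        (fun w hw t ht => ?_) ((Subgroup.zpowers_le).2 (hPV hx)) (Subgroup.mem_zpowers x)
      have hwP : w ∈ P := (Subgroup.zpowers_le).2 hx hw
      have h2 := MulEquiv.congr_fun (hψ1 ⟨w, hwP⟩) ((⟨t, ht⟩ : ↥V) : ↥V ⧸ frattini ↥V)
      rw [MulAut.one_apply] at h2
      have h3 := QuotientGroup.eq.1 h2.symm
      have h4 := (frattini ↥V).mul_mem h3 (frattini ↥V).one_mem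
      refine ⟨_, (inferInstance : (frattini ↥V).Normal).conj_mem _ h4 ⟨t, ht⟩, ?_⟩
      simp [commutatorElement_def, mul_assoc]
    | coprime a b ha hb hab iha ihb =>
      intro x hx hord hcop
      have h1 : (x : G) ∈ Subgroup.zpowers (x ^ a) ⊔ Subgroup.zpowers (x ^ b) := by
        have e : x = (x ^ a) ^ (Nat.gcdA a b) * (x ^ b) ^ (Nat.gcdB a b) := by
          rw [← zpow_natCast, ← zpow_natCast, ← zpow_mul, ← zpow_mul, ← zpow_add, ← Nat.gcd_eq_gcd_ab,
            hab.gcd_eq_one, Nat.cast_one, zpow_one]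
        have hmem : (x ^ a) ^ Nat.gcdA a b * (x ^ b) ^ Nat.gcdB a b ∈
            Subgroup.zpowers (x ^ a) ⊔ Subgroup.zpowers (x ^ b) :=
          Subgroup.mul_mem_sup (zpow_mem (Subgroup.mem_zpowers _) _) (zpow_mem (Subgroup.mem_zpowers _) _)
        rwa [← e] at hmem
      refine (sup_le ((Subgroup.zpowers_le).2 (ihb (x ^ a) (pow_mem hx a) ?_ (hcop.coprime_mul_left)))
        ((Subgroup.zpowers_le).2 (iha (x ^ b) (pow_mem hx b) ?_ (hcop.coprime_mul_right)))) h1
      · rw [orderOf_pow, hord, Nat.gcd_mul_right_left, Nat.mul_div_cancel_left _ (by omega)]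
      · rw [orderOf_pow, hord, Nat.gcd_mul_left_left, Nat.mul_div_cancel _ (by omega)]
  refine CfsgLib.Components.le_of_forall_coprime_mem_of_perfect (p := q) hperf
    (hPV.trans ?_) (fun x hx hcop => hprime _ x hx rfl hcop)
  intro g hg
  refine FlavellFpf.mem_normalizer_of_conj_mem fun y hy => mem_centralizer_iff.2 fun v hv => ?_
  have hv' : g⁻¹ * v * g ∈ V := by
    have := (mem_normalizer_iff.1 (inv_mem hg) v).1 hv
    rwa [inv_inv] at this
  calc v * (g * y * g⁻¹) = g * ((g⁻¹ * v * g) * y) * g⁻¹ := by group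
    _ = g * (y * (g⁻¹ * v * g)) * g⁻¹ := by rw [mem_centralizer_iff.1 hy _ hv']
    _ = g * y * g⁻¹ * v := by group

end CfsgLib.HHSCons
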